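import Cfsg.Agent.Lib.Char.Linear
import Cfsg.Agent.Lib.Char.Induction
import Cfsg.Agent.Lib.Char.Virtual

/-!
An abelian subgroup containing the centralizer of each of its nontrivial elements: orbits of the
normalizer on linear characters, and induced differences of two of them.
-/

set_option autoImplicit false
set_option linter.unusedSectionVars false

open Cfsg CfsgLib.Char
open scoped ComplexConjugate

namespace CfsgLib.DerangeIndex

universe u

variable {D : Type u} [Group D]

/-- An abelian subgroup containing the centralizers of its nontrivial elements. -/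
structure CC (P : Subgroup D) : Prop where
  comm : ∀ x ∈ P, ∀ y ∈ P, x * y = y * x
  cent : ∀ u ∈ P, u ≠ 1 → ∀ x : D, x * u = u * x → x ∈ P

namespace CC

variable {P : Subgroup D}

/-- The function of a linear character. -/
def lc (lam : P →* ℂˣ) : P → ℂ := fun x => (lam x : ℂ)

/-- The restriction to `P`. -/
def res (P : Subgroup D) (f : D → ℂ) : P → ℂ := fun x => f x

/-- Multiplicity of a linear character in the restriction. -/
noncomputable def mult [Fintype P] (f : D → ℂ) (lam : P →* ℂˣ) : ℂ :=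
  classInner (res P f) (lc lam)

instance finite_lam [Finite D] : Finite (P →* ℂˣ) :=
  Finite.of_equiv _ (linearCharEquiv (G := P)).symm

theorem classFun (hP : CC P) (f : P → ℂ) : IsClassFunction P f := fun g h => by
  rw [show h * g * h⁻¹ = g from Subtype.ext (by
    rw [Subgroup.coe_mul, Subgroup.coe_mul, hP.comm h h.2 g g.2]; simp)]

variable [Fintype D] [Fintype P]

theorem inner_lc [DecidableEq (P →* ℂˣ)] (lam mu : P →* ℂˣ) :
    classInner (lc lam) (lc mu) = if lam = mu then 1 else 0 := by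
  classical
  have h := classInner_irr (G := P) (linearCharEquiv lam).1 (linearCharEquiv mu).1
  refine h.trans (if_congr ⟨fun e => ?_, fun e => e ▸ rfl⟩ rfl rfl)
  exact linearCharEquiv.injective (Subtype.ext e)

theorem exists_lc (hP : CC P) (χ : IrrCharacter P) : ∃ lam : P →* ℂˣ, (χ : P → ℂ) = lc lam := by
  obtain ⟨lam, hlam⟩ := linearCharEquiv.surjective ⟨χ, degree_one_of_comm
    (fun a b => Subtype.ext (hP.comm a a.2 b b.2)) χ⟩
  refine ⟨lam, ?_⟩
  have h1 : (linearCharEquiv lam).1 = χ := congrArg Subtype.val hlam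
  rw [← h1]
  rfl

theorem expand (hP : CC P) [Fintype (P →* ℂˣ)] (f : P → ℂ) :
    f = ∑ lam : P →* ℂˣ, classInner f (lc lam) • lc lam := by
  classical
  refine classFun_ext (hP.classFun _) (hP.classFun _) fun χ => ?_
  obtain ⟨mu, hmu⟩ := hP.exists_lc χ
  rw [hmu, classInner_sum_left]
  simp [classInner_smul_left, inner_lc]

theorem parseval (hP : CC P) [Fintype (P →* ℂˣ)] (f h : P → ℂ) :
    classInner f h = ∑ lam : P →* ℂˣ, classInner f (lc lam) * conj (classInner h (lc lam)) := by
  conv_lhs => rw [hP.expand h]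
  simp only [classInner_sum_right, classInner_smul_right]
  exact Finset.sum_congr rfl fun χ _ => mul_comm _ _

theorem eval_one (hP : CC P) [Fintype (P →* ℂˣ)] (f : D → ℂ) :
    f 1 = ∑ lam : P →* ℂˣ, mult f lam := by
  have h := congrFun (hP.expand (res P f)) 1
  simpa [res, lc, mult] using h

theorem mult_nat {f : D → ℂ} (hf : IsCharacter D f) (lam : P →* ℂˣ) : ∃ m : ℕ, mult f lam = m :=
  classInner_isCharacter (isCharacter_comp hf P.subtype)
    (isCharacter_of_isIrr (isIrrCharacter_lin lam))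

/-- Conjugation by an element of the normalizer. -/
def cj (g : Subgroup.normalizer (P : Set D)) : P →* P where
  toFun x := ⟨g * x * (g : D)⁻¹, (Subgroup.mem_normalizer_iff.1 g.2 x).1 x.2⟩
  map_one' := Subtype.ext (by simp)
  map_mul' x y := Subtype.ext (by simp [mul_assoc])

/-- The action on linear characters. -/
def tw (g : Subgroup.normalizer (P : Set D)) (lam : P →* ℂˣ) : P →* ℂˣ := lam.comp (cj g)

theorem tw_mul (g h : Subgroup.normalizer (P : Set D)) (lam : P →* ℂˣ) :
    tw (g * h) lam = tw h (tw g lam) := by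
  ext x
  simp [tw, cj, mul_assoc]

theorem tw_of_mem (hP : CC P) {g : Subgroup.normalizer (P : Set D)} (hg : (g : D) ∈ P)
    (lam : P →* ℂˣ) : tw g lam = lam := by
  ext x
  have h1 : cj g x = x := Subtype.ext (by
    show (g : D) * x * (g : D)⁻¹ = x
    rw [hP.comm g hg x x.2, mul_inv_cancel_right])
  simp [tw, h1]

theorem tw_tw_inv (g : Subgroup.normalizer (P : Set D)) (lam : P →* ℂˣ) : tw g⁻¹ (tw g lam) = lam := by
  rw [← tw_mul, mul_inv_cancel]
  ext x
  simp [tw, cj]

theorem tw_one_left (g : Subgroup.normalizer (P : Set D)) : tw g (1 : P →* ℂˣ) = 1 := by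
  ext x
  simp [tw]

theorem mem_of_tw_eq (hP : CC P) {g : Subgroup.normalizer (P : Set D)} {lam : P →* ℂˣ} (hlam : lam ≠ 1)
    (h : tw g lam = lam) : (g : D) ∈ P := by
  by_contra hg
  let φ : P → P := fun x => cj g x * x⁻¹
  have hφ : Function.Injective φ := by
    intro x y hxy
    have h1 : cj g (x * y⁻¹) = x * y⁻¹ := by
      rw [map_mul, map_inv]
      have e : cj g x * x⁻¹ = cj g y * y⁻¹ := hxy
      calc cj g x * (cj g y)⁻¹ = (cj g x * x⁻¹) * x * (cj g y)⁻¹ := by group
        _ = cj g y * (y⁻¹ * x) * (cj g y)⁻¹ := by rw [e]; group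
        _ = y⁻¹ * x := by
          rw [show cj g y * (y⁻¹ * x) = (y⁻¹ * x) * cj g y from
            Subtype.ext (hP.comm _ (cj g y).2 _ (y⁻¹ * x).2), mul_inv_cancel_right]
        _ = x * y⁻¹ := Subtype.ext (hP.comm _ (y⁻¹).2 _ x.2)
    by_contra hne
    refine hg (hP.cent _ (x * y⁻¹).2 (fun e => hne (mul_inv_eq_one.1 (Subtype.ext e))) g ?_)
    exact mul_inv_eq_iff_eq_mul.1 (congrArg Subtype.val h1)
  apply hlam
  ext x
  obtain ⟨y, rfl⟩ := (Finite.injective_iff_surjective.1 hφ) x
  have h2 : lam (cj g y) = lam y := DFunLike.congr_fun h y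
  simp [φ, h2]

/-- The orbit of a linear character. -/
noncomputable def orbit (lam : P →* ℂˣ) : Finset (P →* ℂˣ) :=
  haveI := Classical.decEq (P →* ℂˣ)
  haveI := Fintype.ofFinite (Subgroup.normalizer (P : Set D))
  Finset.univ.image fun g : Subgroup.normalizer (P : Set D) => tw g lam

theorem mem_orbit {lam mu : P →* ℂˣ} :
    mu ∈ orbit lam ↔ ∃ g : Subgroup.normalizer (P : Set D), tw g lam = mu := by
  simp [orbit]

theorem self_mem_orbit (hP : CC P) (lam : P →* ℂˣ) : lam ∈ orbit lam :=
  mem_orbit.2 ⟨1, hP.tw_of_mem (one_mem P) lam⟩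

theorem orbit_eq_of_mem {lam mu : P →* ℂˣ} (h : mu ∈ orbit lam) : orbit mu = orbit lam := by
  obtain ⟨g, rfl⟩ := mem_orbit.1 h
  ext nu
  simp only [mem_orbit]
  constructor
  · rintro ⟨k, rfl⟩
    exact ⟨g * k, tw_mul g k lam⟩
  · rintro ⟨k, rfl⟩
    exact ⟨g⁻¹ * k, by rw [tw_mul, tw_tw_inv]⟩

theorem ne_one_of_mem_orbit {lam mu : P →* ℂˣ} (hlam : lam ≠ 1) (h : mu ∈ orbit lam) : mu ≠ 1 := by
  obtain ⟨g, rfl⟩ := mem_orbit.1 h
  intro e
  exact hlam (by rw [← tw_tw_inv g lam, e, tw_one_left])

/-- Averaging over the normalizer. -/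
theorem sum_tw (hP : CC P) [Fintype (Subgroup.normalizer (P : Set D))] {lam : P →* ℂˣ}
    (hlam : lam ≠ 1) {M : Type*} [AddCommMonoid M] (F : (P →* ℂˣ) → M) :
    ∑ g : Subgroup.normalizer (P : Set D), F (tw g lam) = Nat.card P • ∑ mu ∈ orbit lam, F mu := by
  classical
  rw [← Finset.sum_fiberwise_of_maps_to (t := orbit lam) (g := fun g => tw g lam)
    (fun g _ => mem_orbit.2 ⟨g, rfl⟩), Finset.smul_sum]
  refine Finset.sum_congr rfl fun mu hmu => ?_
  rw [Finset.sum_congr rfl (g := fun _ => F mu) fun g hg => by rw [(Finset.mem_filter.1 hg).2],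
    Finset.sum_const]
  congr 1
  obtain ⟨g₀, rfl⟩ := mem_orbit.1 hmu
  rw [Nat.card_eq_fintype_card, ← Fintype.card_coe]
  refine Fintype.card_congr
    { toFun := fun g => ⟨(g.1 : D) * (g₀ : D)⁻¹, ?_⟩
      invFun := fun x => ⟨⟨x, Subgroup.le_normalizer x.2⟩ * g₀, Finset.mem_filter.2
        ⟨Finset.mem_univ _, by
          rw [tw_mul, hP.tw_of_mem (g := ⟨x, Subgroup.le_normalizer x.2⟩) x.2]⟩⟩
      left_inv := fun g => Subtype.ext (Subtype.ext (inv_mul_cancel_right _ _))
      right_inv := fun x => Subtype.ext (mul_inv_cancel_right _ _) }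
  have h1 : tw (g.1 * g₀⁻¹) lam = lam := by
    rw [tw_mul, (Finset.mem_filter.1 g.2).2, tw_tw_inv]
  exact hP.mem_of_tw_eq hlam h1

theorem card_orbit (hP : CC P) {lam : P →* ℂˣ} (hlam : lam ≠ 1) :
    (orbit lam).card = P.relIndex (Subgroup.normalizer (P : Set D)) := by
  haveI := Fintype.ofFinite (Subgroup.normalizer (P : Set D))
  have h := hP.sum_tw hlam (fun _ => (1 : ℕ))
  rw [Finset.sum_const, Finset.sum_const, Finset.card_univ, smul_eq_mul, smul_eq_mul, smul_eq_mul,
    mul_one, mul_one, ← Nat.card_eq_fintype_card] at h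
  have h2 := Subgroup.relIndex_mul_relIndex ⊥ P (Subgroup.normalizer (P : Set D)) bot_le
    Subgroup.le_normalizer
  rw [Subgroup.relIndex_bot_left, Subgroup.relIndex_bot_left] at h2
  exact Nat.eq_of_mul_eq_mul_left Nat.card_pos (h.symm.trans h2.symm)

theorem mult_tw {f : D → ℂ} (hf : IsClassFunction D f) (g : Subgroup.normalizer (P : Set D))
    (lam : P →* ℂˣ) : mult f (tw g lam) = mult f lam := by
  simp only [mult, classInner]
  congr 1
  have hbij : Function.Bijective (cj g : P → P) := by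
    rw [← Finite.injective_iff_bijective]
    intro x y h
    have h1 : (g : D) * x * (g : D)⁻¹ = (g : D) * y * (g : D)⁻¹ := congrArg Subtype.val h
    exact Subtype.ext (mul_left_cancel (mul_right_cancel h1))
  refine Fintype.sum_bijective _ hbij _ _ fun x => ?_
  show f x * conj ((lam (cj g x) : ℂˣ) : ℂ) = f (cj g x) * _
  rw [show f (cj g x) = f x from hf x g]
  rfl

theorem mult_orbit {f : D → ℂ} (hf : IsClassFunction D f) {lam mu : P →* ℂˣ}
    (h : mu ∈ orbit lam) : mult f mu = mult f lam := by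
  obtain ⟨g, rfl⟩ := mem_orbit.1 h
  exact mult_tw hf g lam

/-- The restriction of the induced difference of two linear characters. -/
theorem res_indFun (hP : CC P) {lam nu : P →* ℂˣ} (hlam : lam ≠ 1) (hnu : nu ≠ 1) :
    res P (indFun P (lc lam - lc nu)) =
      (∑ mu ∈ orbit lam, lc mu) - ∑ mu ∈ orbit nu, lc mu := by
  classical
  haveI := Fintype.ofFinite (Subgroup.normalizer (P : Set D))
  funext x
  by_cases hx : x = 1
  · subst hx
    show indFun P _ (1 : P).1 = _
    rw [OneMemClass.coe_one, indFun_one]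
    simp [lc, hP.card_orbit hlam, hP.card_orbit hnu]
  · set f := lc lam - lc nu with hf
    show indFun P f (x : D) = _
    have h0 : ∀ y : D, y ∉ Subgroup.normalizer (P : Set D) →
        extendByZero P f (y⁻¹ * x * y) = 0 := fun y hy => by
      refine extendByZero_not_mem P f fun hm => hy ?_
      refine Subgroup.mem_normalizer_iff.2 ?_
      have hne : y⁻¹ * x * y ≠ 1 := fun e => hx (Subtype.ext (by
        calc (x : D) = y * (y⁻¹ * x * y) * y⁻¹ := by group
          _ = 1 := by rw [e]; group))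
      have hfw : ∀ w ∈ P, y * w * y⁻¹ ∈ P := fun w hw => hP.cent x x.2 (fun e => hx (Subtype.ext e)) _ (by
        have h2 := hP.comm w hw _ hm
        calc y * w * y⁻¹ * (x : D) = y * (w * (y⁻¹ * x * y)) * y⁻¹ := by group
          _ = y * ((y⁻¹ * x * y) * w) * y⁻¹ := by rw [h2]
          _ = _ := by group)
      intro w
      refine ⟨hfw w, fun hw => ?_⟩
      refine hP.cent _ hm hne w ?_
      have h2 := hP.comm _ hw _ x.2
      calc w * (y⁻¹ * x * y) = y⁻¹ * ((y * w * y⁻¹) * x) * y := by group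
        _ = y⁻¹ * ((x : D) * (y * w * y⁻¹)) * y := by rw [h2]
        _ = _ := by group
    have h1 : ∑ y : D, extendByZero P f (y⁻¹ * x * y) =
        ∑ g : Subgroup.normalizer (P : Set D), (lc (tw g⁻¹ lam) x - lc (tw g⁻¹ nu) x) := by
      rw [← Finset.sum_filter_add_sum_filter_not Finset.univ
        (fun y => y ∈ Subgroup.normalizer (P : Set D)),
        Finset.sum_eq_zero (s := Finset.univ.filter fun y => ¬ y ∈ Subgroup.normalizer (P : Set D))
          (fun y hy => h0 y (Finset.mem_filter.1 hy).2), add_zero]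
      refine (Finset.sum_subtype _ (fun y => by simp) _).trans (Finset.sum_congr rfl fun g _ => ?_)
      have hmem : (g : D)⁻¹ * x * g ∈ P := by
        simpa using (Subgroup.mem_normalizer_iff.1 (inv_mem g.2) x).1 x.2
      rw [extendByZero_mem P f hmem]
      have e : cj g⁻¹ x = ⟨(g : D)⁻¹ * x * g, hmem⟩ := Subtype.ext (by simp [cj])
      simp [hf, lc, tw, e]
    have h2 : ∑ g : Subgroup.normalizer (P : Set D), (lc (tw g⁻¹ lam) x - lc (tw g⁻¹ nu) x) =
        Nat.card P • ((∑ mu ∈ orbit lam, lc mu x) - ∑ mu ∈ orbit nu, lc mu x) := by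
      rw [Finset.sum_sub_distrib, smul_sub,
        ← hP.sum_tw hlam (fun mu => lc mu x), ← hP.sum_tw hnu (fun mu => lc mu x)]
      congr 1
      · exact Equiv.sum_comp (Equiv.inv _) fun g => lc (tw g lam) x
      · exact Equiv.sum_comp (Equiv.inv _) fun g => lc (tw g nu) x
    rw [indFun, h1, h2, nsmul_eq_mul, ← mul_assoc,
      inv_mul_cancel₀ (by exact_mod_cast Nat.card_pos.ne'), one_mul]
    simp [Finset.sum_apply]

theorem inner_irr_indFun (χ : D → ℂ) (hχ : IsClassFunction D χ) (lam nu : P →* ℂˣ) :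
    classInner χ (indFun P (lc lam - lc nu)) = mult χ lam - mult χ nu := by
  rw [classInner_indFun_right P _ χ hχ, classInner_sub_right]
  rfl

theorem norm_indFun (hP : CC P) {lam nu : P →* ℂˣ} (hlam : lam ≠ 1) (hnu : nu ≠ 1)
    (h : nu ∉ orbit lam) :
    classInner (indFun P (lc lam - lc nu)) (indFun P (lc lam - lc nu)) = 2 := by
  classical
  rw [classInner_indFun P _ _ (isClassFunction_indFun _ _)]
  show classInner (lc lam - lc nu) (res P (indFun P (lc lam - lc nu))) = 2
  have h' : lam ∉ orbit nu := fun e => h (orbit_eq_of_mem e ▸ hP.self_mem_orbit nu)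
  rw [hP.res_indFun hlam hnu, classInner_sub_right, classInner_sum_right, classInner_sum_right,
    Finset.sum_congr rfl fun mu _ => classInner_sub_left (lc lam) (lc nu) (lc mu),
    Finset.sum_congr rfl fun mu _ => classInner_sub_left (lc lam) (lc nu) (lc mu)]
  simp [inner_lc, hP.self_mem_orbit, h, h']
  norm_num

end CC

end CfsgLib.DerangeIndex
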