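import Cfsg.Agent.Lib.Perm.DerangeIndex.CC.Basic
import Cfsg.Agent.Lib.Char.Perm

/-!
The constituents of `π - 1` for a regular abelian subgroup containing the centralizers of its nontrivial
elements, in a transitive group that is not doubly transitive.
-/

set_option autoImplicit false
set_option linter.unusedSectionVars false

open Cfsg CfsgLib.Char
open scoped ComplexConjugate

namespace CfsgLib.DerangeIndex

universe u v

variable {D : Type u} [Group D] [Fintype D] {P : Subgroup D} [Fintype P]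

namespace CC

theorem mult_expand [Fintype (IrrCharacter D)] {f : D → ℂ} (hf : IsClassFunction D f)
    (lam : P →* ℂˣ) :
    mult f lam = ∑ χ : IrrCharacter D, classInner f χ * mult (χ : D → ℂ) lam := by
  have h : res P f = ∑ χ : IrrCharacter D, classInner f χ • res P (χ : D → ℂ) := by
    funext x
    conv_lhs => rw [classFun_expand hf]
    simp [res]
  rw [mult, h, classInner_sum_left]
  simp [classInner_smul_left, mult]

/-- The constituents of `π - 1`. -/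
theorem exists_family (hP : CC P) {X : Type v} [MulAction D X] [Finite X]
    [MulAction.IsPretransitive D X] (hX : 2 ≤ Nat.card X) (hcard : Nat.card P = Nat.card X)
    (hsemi : ∀ u ∈ P, ∀ b : X, u • b = b → u = 1)
    (h2 : ¬ MulAction.IsMultiplyPretransitive D X 2) :
    ∃ Ψ : Finset (IrrCharacter D),
      (∀ ψ ∈ Ψ, ∃ lam : P →* ℂˣ, lam ≠ 1 ∧
        ∀ mu : P →* ℂˣ, (mu ∈ orbit lam → mult (ψ : D → ℂ) mu = 1) ∧
          (mu ∉ orbit lam → mult (ψ : D → ℂ) mu = 0)) ∧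
      (∀ lam : P →* ℂˣ, lam ≠ 1 → ∃ ψ ∈ Ψ, mult (ψ : D → ℂ) lam = 1) ∧
      (∀ χ : IrrCharacter D, χ ∉ Ψ → ∀ lam mu : P →* ℂˣ, lam ≠ 1 → mu ≠ 1 →
        mult (χ : D → ℂ) lam = mult (χ : D → ℂ) mu) ∧
      (∀ ψ ∈ Ψ, ∀ ψ' ∈ Ψ, ∀ lam : P →* ℂˣ, mult (ψ : D → ℂ) lam ≠ 0 → mult (ψ' : D → ℂ) lam ≠ 0 →
        ψ = ψ') ∧
      permChar D X = (fun _ => 1) + ∑ ψ ∈ Ψ, (ψ : D → ℂ) := by
  classical
  haveI := Fintype.ofFinite (IrrCharacter D)
  haveI := Fintype.ofFinite (P →* ℂˣ)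
  set π : D → ℂ := permChar D X with hπ
  have hπc : IsCharacter D π := isCharacter_permChar X
  have hπ0 : ∀ x : P, x ≠ 1 → π (x : D) = 0 := fun x hx => by
    have : IsEmpty (MulAction.fixedBy X (x : D)) :=
      ⟨fun b => hx (Subtype.ext (hsemi x x.2 b.1 b.2))⟩
    simp [hπ, permChar, Nat.card_of_isEmpty]
  have hπ1 : π 1 = (Nat.card X : ℂ) := by
    simp only [hπ, permChar]
    congr 1
    exact Nat.card_congr (Equiv.subtypeUnivEquiv fun b => one_smul D b)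
  have hmπ : ∀ lam : P →* ℂˣ, mult π lam = 1 := fun lam => by
    simp only [mult, classInner]
    rw [Finset.sum_eq_single (1 : P) (fun x _ hx => by simp [res, hπ0 x hx]) (by simp)]
    simp only [res, OneMemClass.coe_one, hπ1, lc, map_one, Units.val_one, mul_one, hcard]
    rw [inv_mul_cancel₀]
    exact_mod_cast (by omega : Nat.card X ≠ 0)
  obtain ⟨one, hone⟩ : ∃ one : IrrCharacter D, (one : D → ℂ) = fun _ => 1 :=
    ⟨⟨_, isIrrCharacter_one⟩, rfl⟩
  have ha1 : classInner π (one : D → ℂ) = 1 := by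
    rw [hone, hπ, classInner_permChar_one]
    haveI : Nonempty X := (Nat.card_pos_iff.1 (by omega)).1
    haveI : Subsingleton (MulAction.orbitRel.Quotient D X) :=
      (MulAction.pretransitive_iff_subsingleton_quotient D X).1 inferInstance
    haveI : Nonempty (MulAction.orbitRel.Quotient D X) := ⟨Quotient.mk _ (Classical.arbitrary X)⟩
    rw [Nat.card_unique, Nat.cast_one]
  have hm1 : ∀ lam : P →* ℂˣ, mult (one : D → ℂ) lam = if (1 : P →* ℂˣ) = lam then 1 else 0 :=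
    fun lam => by
      rw [← inner_lc (1 : P →* ℂˣ) lam, mult, hone]
      congr 1
  have hA : ∀ χ : IrrCharacter D, ∃ a : ℕ, classInner π (χ : D → ℂ) = a :=
    fun χ => classInner_char_irr_nat hπc χ
  choose a ha using hA
  have hM : ∀ (χ : IrrCharacter D) (lam : P →* ℂˣ), ∃ m : ℕ, mult (χ : D → ℂ) lam = m :=
    fun χ lam => mult_nat (isCharacter_irr χ) lam
  choose m hm using hM
  -- the multiplicities
  have hsum : ∀ lam : P →* ℂˣ, ∑ χ ∈ Finset.univ.erase one, a χ * m χ lam =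
      if lam = 1 then 0 else 1 := by
    intro lam
    have h := mult_expand (P := P) (isClassFunction_of_isCharacter hπc) lam
    rw [hmπ, ← Finset.sum_erase_add _ _ (Finset.mem_univ one), ha1, one_mul, hm1] at h
    split_ifs with hl
    · subst hl
      simp only [↓reduceIte, right_eq_add] at h
      simp only [ha, hm, ← Nat.cast_mul, ← Nat.cast_sum] at h
      exact_mod_cast h
    · rw [if_neg (fun e => hl e.symm), add_zero] at h
      simp only [ha, hm, ← Nat.cast_mul, ← Nat.cast_sum] at h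
      exact_mod_cast h.symm
  set Ψ := (Finset.univ.erase one).filter fun χ => a χ ≠ 0 with hΨdef
  have hmemΨ : ∀ {χ}, χ ∈ Ψ ↔ χ ≠ one ∧ a χ ≠ 0 := fun {χ} => by simp [hΨdef]
  have hψ1 : ∀ ψ ∈ Ψ, m ψ 1 = 0 := fun ψ hψ => by
    have h := hsum 1
    rw [if_pos rfl, Finset.sum_eq_zero_iff] at h
    have := h ψ (Finset.mem_erase.2 ⟨(hmemΨ.1 hψ).1, Finset.mem_univ _⟩)
    rcases Nat.mul_eq_zero.1 this with e | e
    · exact absurd e (hmemΨ.1 hψ).2
    · exact e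
  have hdeg : ∀ χ : IrrCharacter D, ∃ lam, m χ lam ≠ 0 := fun χ => by
    by_contra hcon
    push Not at hcon
    exact irr_one_ne_zero χ (by rw [hP.eval_one (χ : D → ℂ)]; simp [hm, hcon])
  have huniq : ∀ lam : P →* ℂˣ, lam ≠ 1 → ∀ χ ∈ Ψ, ∀ χ' ∈ Ψ, m χ lam ≠ 0 → m χ' lam ≠ 0 →
      χ = χ' ∧ a χ = 1 ∧ m χ lam = 1 := by
    intro lam hl χ hχ χ' hχ' h1 h1'
    have h := hsum lam
    rw [if_neg hl] at h
    have hsub : ({χ, χ'} : Finset _) ⊆ Finset.univ.erase one := by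
      intro y hy
      rcases Finset.mem_insert.1 hy with e | e
      · exact Finset.mem_erase.2 ⟨e ▸ (hmemΨ.1 hχ).1, Finset.mem_univ _⟩
      · exact Finset.mem_erase.2 ⟨Finset.mem_singleton.1 e ▸ (hmemΨ.1 hχ').1, Finset.mem_univ _⟩
    have hle := Finset.sum_le_sum_of_subset (f := fun χ => a χ * m χ lam) hsub
    rw [h] at hle
    have p1 : 1 ≤ a χ * m χ lam := Nat.one_le_iff_ne_zero.2 (Nat.mul_ne_zero (hmemΨ.1 hχ).2 h1)
    have p2 : 1 ≤ a χ' * m χ' lam := Nat.one_le_iff_ne_zero.2 (Nat.mul_ne_zero (hmemΨ.1 hχ').2 h1')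
    by_cases he : χ = χ'
    · subst he
      simp at hle
      have : a χ * m χ lam = 1 := by omega
      exact ⟨rfl, Nat.eq_one_of_mul_eq_one_right this, Nat.eq_one_of_mul_eq_one_left this⟩
    · rw [Finset.sum_pair he] at hle
      omega
  have hex : ∀ lam : P →* ℂˣ, lam ≠ 1 → ∃ ψ ∈ Ψ, m ψ lam = 1 := by
    intro lam hl
    have h := hsum lam
    rw [if_neg hl] at h
    obtain ⟨χ, hχ, hne⟩ := Finset.exists_ne_zero_of_sum_ne_zero (h ▸ one_ne_zero)
    have hχΨ : χ ∈ Ψ := Finset.mem_filter.2 ⟨hχ, (Nat.mul_ne_zero_iff.1 hne).1⟩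
    exact ⟨χ, hχΨ, (huniq lam hl χ hχΨ χ hχΨ (Nat.mul_ne_zero_iff.1 hne).2
      (Nat.mul_ne_zero_iff.1 hne).2).2.2⟩
  have hne1 : ∀ ψ ∈ Ψ, ∀ lam : P →* ℂˣ, m ψ lam ≠ 0 → lam ≠ 1 :=
    fun ψ hψ lam h e => h (e ▸ hψ1 ψ hψ)
  have haΨ : ∀ ψ ∈ Ψ, a ψ = 1 := fun ψ hψ => by
    obtain ⟨lam, hl⟩ := hdeg ψ
    exact (huniq lam (hne1 ψ hψ lam hl) ψ hψ ψ hψ hl hl).2.1
  have hperm : π = (fun _ => 1) + ∑ ψ ∈ Ψ, (ψ : D → ℂ) := by
    conv_lhs => rw [classFun_expand (isClassFunction_of_isCharacter hπc)]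
    rw [← Finset.add_sum_erase _ _ (Finset.mem_univ one), ha1, one_smul, hone]
    congr 1
    rw [hΨdef, Finset.sum_filter]
    refine Finset.sum_congr rfl fun χ hχ => ?_
    split_ifs with h
    · rw [ha, haΨ χ (hmemΨ.2 ⟨(Finset.mem_erase.1 hχ).1, h⟩), Nat.cast_one, one_smul]
    · rw [not_not] at h
      simp [ha, h]
  have hother : ∀ ψ ∈ Ψ, ∃ ψ' ∈ Ψ, ψ' ≠ ψ := by
    intro ψ hψ
    by_contra hcon
    push Not at hcon
    have hΨ1 : Ψ = {ψ} := Finset.eq_singleton_iff_unique_mem.2 ⟨hψ, hcon⟩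
    refine h2 ((isIrr_permChar_sub_one_iff (G := D) X hX).1 ?_)
    convert ψ.2 using 1
    funext g
    have := congrFun hperm g
    rw [hΨ1] at this
    simp only [hπ, Pi.add_apply, Finset.sum_singleton] at this
    rw [this]
    simp
  have hnotorb : ∀ ψ ∈ Ψ, ∀ lam nu : P →* ℂˣ, m ψ lam ≠ m ψ nu → nu ∉ orbit lam :=
    fun ψ _ lam nu hne hm' => hne (by
      have := mult_orbit (isClassFunction_irr ψ) hm'
      rw [hm, hm] at this
      exact_mod_cast this.symm)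
  -- two linear characters in different constituents
  have hdiff : ∀ ψ ∈ Ψ, ∀ ψ' ∈ Ψ, ψ ≠ ψ' → ∀ lam nu : P →* ℂˣ, m ψ lam = 1 → m ψ' nu = 1 →
      ∀ χ : IrrCharacter D, χ ≠ ψ → χ ≠ ψ' → m χ lam = m χ nu := by
    intro ψ hψ ψ' hψ' hne lam nu hlam hnu χ hχ hχ'
    have hl1 := hne1 ψ hψ lam (by omega)
    have hn1 := hne1 ψ' hψ' nu (by omega)
    have h1 : m ψ nu = 0 := by
      by_contra h
      exact hne (huniq nu hn1 ψ hψ ψ' hψ' h (by omega)).1
    have h2 : m ψ' lam = 0 := by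
      by_contra h
      exact hne (huniq lam hl1 ψ hψ ψ' hψ' (by omega) h).1
    have hnorm := hP.norm_indFun hl1 hn1 (hnotorb ψ hψ lam nu (by omega))
    rw [classInner_expand (isClassFunction_indFun _ _)] at hnorm
    have hco : ∀ χ : IrrCharacter D, classInner (indFun P (lc lam - lc nu)) (χ : D → ℂ) =
        (((m χ lam : ℤ) - m χ nu : ℤ) : ℂ) := fun χ => by
      rw [← classInner_conj, inner_irr_indFun _ (isClassFunction_irr χ), hm, hm]
      simp
    simp only [hco, map_intCast, ← Int.cast_mul, ← Int.cast_sum] at hnorm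
    have hi : ∑ χ : IrrCharacter D, ((m χ lam : ℤ) - m χ nu) * ((m χ lam : ℤ) - m χ nu) = 2 := by
      exact_mod_cast hnorm
    rw [← Finset.add_sum_erase _ _ (Finset.mem_univ ψ),
      ← Finset.add_sum_erase _ _ (Finset.mem_erase.2 ⟨hne.symm, Finset.mem_univ ψ'⟩)] at hi
    have hz := Finset.single_le_sum (s := (Finset.univ.erase ψ).erase ψ')
      (f := fun χ : IrrCharacter D => ((m χ lam : ℤ) - m χ nu) * ((m χ lam : ℤ) - m χ nu))
      (fun i _ => mul_self_nonneg _)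
      (Finset.mem_erase.2 ⟨hχ', Finset.mem_erase.2 ⟨hχ, Finset.mem_univ χ⟩⟩)
    rw [hlam, h1, h2, hnu] at hi
    simp only [Nat.cast_one, Nat.cast_zero] at hi hz
    have h0 : ((m χ lam : ℤ) - m χ nu) * ((m χ lam : ℤ) - m χ nu) ≤ 0 := by omega
    have : ((m χ lam : ℤ) - m χ nu) = 0 := by nlinarith [mul_self_nonneg ((m χ lam : ℤ) - m χ nu)]
    omega
  have hconst : ∀ χ : IrrCharacter D, χ ∉ Ψ → ∀ lam mu : P →* ℂˣ, lam ≠ 1 → mu ≠ 1 →
      m χ lam = m χ mu := by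
    intro χ hχ lam mu hl hu
    obtain ⟨ψ, hψ, h1⟩ := hex lam hl
    obtain ⟨ψ', hψ', h1'⟩ := hex mu hu
    have hne : ∀ φ ∈ Ψ, χ ≠ φ := fun φ hφ e => hχ (e ▸ hφ)
    by_cases he : ψ = ψ'
    · obtain ⟨φ, hφ, hφne⟩ := hother ψ hψ
      obtain ⟨nu, hnu⟩ := hdeg φ
      have hnu1 := (huniq nu (hne1 φ hφ nu hnu) φ hφ φ hφ hnu hnu).2.2
      rw [hdiff ψ hψ φ hφ hφne.symm lam nu h1 hnu1 χ (hne ψ hψ) (hne φ hφ),
        hdiff ψ' hψ' φ hφ (he ▸ hφne.symm) mu nu h1' hnu1 χ (hne ψ' hψ') (hne φ hφ)]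
    · exact hdiff ψ hψ ψ' hψ' he lam mu h1 h1' χ (hne ψ hψ) (hne ψ' hψ')
  refine ⟨Ψ, fun ψ hψ => ?_, fun lam hl => ?_, fun χ hχ lam mu hl hu => ?_,
    fun ψ hψ ψ' hψ' lam h h' => ?_, hperm⟩
  · obtain ⟨lam, hlam⟩ := hdeg ψ
    have hl1 := hne1 ψ hψ lam hlam
    have hlam1 := (huniq lam hl1 ψ hψ ψ hψ hlam hlam).2.2
    refine ⟨lam, hl1, fun mu => ⟨fun hmu => ?_, fun hmu => ?_⟩⟩
    · rw [mult_orbit (isClassFunction_irr ψ) hmu, hm, hlam1, Nat.cast_one]
    · rw [hm, Nat.cast_eq_zero]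
      by_contra hne
      have hmu1 := hne1 ψ hψ mu hne
      have hmuv := (huniq mu hmu1 ψ hψ ψ hψ hne hne).2.2
      have hnorm := hP.norm_indFun hl1 hmu1 hmu
      rw [classInner_expand (isClassFunction_indFun _ _)] at hnorm
      rw [Finset.sum_eq_zero fun χ _ => ?_] at hnorm
      · norm_num at hnorm
      have heq : m χ lam = m χ mu := by
        by_cases hχ : χ ∈ Ψ
        · by_cases hc : χ = ψ
          · rw [hc, hlam1, hmuv]
          · have e1 : m χ lam = 0 := by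
              by_contra h
              exact hc (huniq lam hl1 χ hχ ψ hψ h hlam).1
            have e2 : m χ mu = 0 := by
              by_contra h
              exact hc (huniq mu hmu1 χ hχ ψ hψ h hne).1
            rw [e1, e2]
        · exact hconst χ hχ lam mu hl1 hmu1
      rw [← classInner_conj, inner_irr_indFun _ (isClassFunction_irr χ), hm, hm, heq, sub_self]
      simp
  · obtain ⟨ψ, hψ, h⟩ := hex lam hl
    exact ⟨ψ, hψ, by rw [hm, h, Nat.cast_one]⟩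
  · rw [hm, hm, hconst χ hχ lam mu hl hu]
  · rw [hm, Nat.cast_ne_zero] at h h'
    exact (huniq lam (hne1 ψ hψ lam h) ψ hψ ψ' hψ' h h').1

end CC

end CfsgLib.DerangeIndex
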