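import Cfsg.Agent.Lib.Perm.DerangeIndex.CC.Squares
import Cfsg.Agent.Lib.Char.Integrality

/-!
Such a subgroup is normal.
-/

set_option autoImplicit false
set_option linter.unusedSectionVars false

open Cfsg CfsgLib.Char
open scoped ComplexConjugate

namespace CfsgLib.DerangeIndex

universe u v

variable {D : Type u} [Group D] [Fintype D] {P : Subgroup D} [Fintype P]

namespace CC

theorem normalClosure_char_eq (χ : IrrCharacter D) (h : ∀ x ∈ P, (χ : D → ℂ) x = (χ : D → ℂ) 1) :
    ∀ x ∈ Subgroup.normalClosure (P : Set D), (χ : D → ℂ) x = (χ : D → ℂ) 1 := by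
  obtain ⟨χ, n, ρ, hρ, rfl⟩ := χ
  intro x hx
  have hle : Subgroup.normalClosure (P : Set D) ≤ ρ.ker := by
    refine Subgroup.normalClosure_le_normal fun y hy => ?_
    have h1 := h y hy
    simp only [Representation.char_one] at h1
    exact MonoidHom.mem_ker.2 ((char_eq_degree_iff ρ y).1 h1)
  have h2 : ρ x = 1 := MonoidHom.mem_ker.1 (hle hx)
  show ρ.character x = ρ.character 1
  simp only [Representation.character, h2, map_one]

theorem commutator_mem_ker (hP : CC P) (Ψ : Finset (IrrCharacter D))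
    (hΨ1 : ∀ ψ ∈ Ψ, ∃ lam : P →* ℂˣ, lam ≠ 1 ∧
        ∀ mu : P →* ℂˣ, (mu ∈ orbit lam → mult (ψ : D → ℂ) mu = 1) ∧
          (mu ∉ orbit lam → mult (ψ : D → ℂ) mu = 0))
    (hΨc : ∀ χ : IrrCharacter D, χ ∉ Ψ → ∀ lam mu : P →* ℂˣ, lam ≠ 1 → mu ≠ 1 →
        mult (χ : D → ℂ) lam = mult (χ : D → ℂ) mu)
    (hΨu : ∀ ψ ∈ Ψ, ∀ ψ' ∈ Ψ, ∀ lam : P →* ℂˣ, mult (ψ : D → ℂ) lam ≠ 0 →
        mult (ψ' : D → ℂ) lam ≠ 0 → ψ = ψ')
    (hn : 8 ≤ Nat.card P)
    (hl : P.relIndex (Subgroup.normalizer (P : Set D)) *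
      (P.relIndex (Subgroup.normalizer (P : Set D)) - 1) ≤ Nat.card P - 1)
    {θ : IrrCharacter D} (hθ : θ ∈ Ψ) :
    ∀ x ∈ Subgroup.normalClosure (P : Set D), ∀ y ∈ Subgroup.normalClosure (P : Set D),
      (θ : D → ℂ) (x * y * x⁻¹ * y⁻¹) = (θ : D → ℂ) 1 := by
  classical
  haveI := Fintype.ofFinite (IrrCharacter D)
  haveI := Fintype.ofFinite (P →* ℂˣ)
  set D₁ := Subgroup.normalClosure (P : Set D) with hD₁
  haveI : D₁.Normal := Subgroup.normalClosure_normal
  have hPD : P ≤ D₁ := fun x hx => Subgroup.subset_normalClosure hx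
  haveI := Fintype.ofFinite D₁
  haveI := Fintype.ofFinite (IrrCharacter D₁)
  let ι : P →* D₁ := Subgroup.inclusion hPD
  let oneD : IrrCharacter D₁ := ⟨_, isIrrCharacter_one⟩
  -- restriction to `P` through `D₁`
  have hchain : ∀ {f : D → ℂ}, IsClassFunction D f → ∀ lam : P →* ℂˣ, mult f lam =
      ∑ η : IrrCharacter D₁, classInner (fun x : D₁ => f x) (η : D₁ → ℂ) *
        classInner (fun x : P => (η : D₁ → ℂ) (ι x)) (lc lam) := by
    intro f hf lam
    have hr : res P f = ∑ η : IrrCharacter D₁, classInner (fun x : D₁ => f x) (η : D₁ → ℂ) •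
        (fun x : P => (η : D₁ → ℂ) (ι x)) := by
      funext x
      show f ((ι x : D₁) : D) = _
      rw [show f ((ι x : D₁) : D) = (fun y : D₁ => f y) (ι x) from rfl]
      conv_lhs => rw [classFun_expand (f := fun y : D₁ => f y) fun g h => hf g h]
      simp
    rw [mult, hr, classInner_sum_left]
    simp [classInner_smul_left]
  have hE : ∀ (φ : IrrCharacter D) (η : IrrCharacter D₁), ∃ e : ℕ,
      classInner (fun x : D₁ => (φ : D → ℂ) x) (η : D₁ → ℂ) = e := fun φ η =>
    classInner_char_irr_nat (isCharacter_comp (isCharacter_irr φ) D₁.subtype) η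
  have hM : ∀ (η : IrrCharacter D₁) (lam : P →* ℂˣ), ∃ m : ℕ,
      classInner (fun x : P => (η : D₁ → ℂ) (ι x)) (lc lam) = m := fun η lam =>
    classInner_isCharacter (isCharacter_comp (isCharacter_irr η) ι)
      (isCharacter_of_isIrr (isIrrCharacter_lin lam))
  choose e he using hE
  choose m hm using hM
  have hme : ∀ (φ : IrrCharacter D) (lam : P →* ℂˣ), mult (φ : D → ℂ) lam =
      ((∑ η : IrrCharacter D₁, e φ η * m η lam : ℕ) : ℂ) := fun φ lam => by
    rw [hchain (isClassFunction_irr φ) lam]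
    push_cast
    simp [he, hm]
  obtain ⟨lam₀, hlam₀, horb⟩ := hΨ1 θ hθ
  set O := orbit lam₀ with hO
  set l := O.card with hldef
  have hresθ := hP.res_of_orbit (θ : D → ℂ) lam₀ horb
  set f₁ : D → ℂ := fun x => (θ : D → ℂ) x * conj ((θ : D → ℂ) x) with hf₁
  have hc₁ : IsCharacter D f₁ :=
    isCharacter_mul (isCharacter_irr θ) (isCharacter_conj (isCharacter_irr θ))
  have hres₁ : res P f₁ = ∑ p ∈ O ×ˢ O, lc (p.1 * p.2⁻¹) := by
    funext x
    have hθx : (θ : D → ℂ) x = ∑ mu ∈ O, lc mu x := by simpa [res] using congrFun hresθ x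
    simp only [res, hf₁, hθx, Finset.sum_apply, map_sum, Finset.sum_mul_sum, Finset.sum_product,
      lc_mul, conj_lc]
  have hm11 : mult f₁ (1 : P →* ℂˣ) = (l : ℂ) := by
    rw [mult_sum_pairs f₁ O _ hres₁ 1, Nat.cast_inj, hldef]
    refine Finset.card_bij (fun p _ => p.1) (fun p hp => ?_) (fun p hp q hq e' => ?_)
      fun x hx => ⟨(x, x), Finset.mem_filter.2 ⟨Finset.mk_mem_product hx hx, mul_inv_cancel x⟩, rfl⟩
    · exact (Finset.mem_product.1 (Finset.mem_filter.1 hp).1).1
    · have h1 := (mul_inv_eq_one (G := P →* ℂˣ)).1 (Finset.mem_filter.1 hp).2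
      have h2 := (mul_inv_eq_one (G := P →* ℂˣ)).1 (Finset.mem_filter.1 hq).2
      exact Prod.ext e' (h1.symm.trans (e'.trans h2))
  -- the trivial character of `D₁` in each constituent
  have htriv : ∀ φ : IrrCharacter D, classInner f₁ (φ : D → ℂ) ≠ 0 →
      classInner (fun x : D₁ => (φ : D → ℂ) x) (fun _ => 1) = mult (φ : D → ℂ) (1 : P →* ℂˣ) := by
    intro φ hφ
    by_cases hmem : φ ∈ Ψ
    · obtain ⟨lam, hlam, hor⟩ := hΨ1 φ hmem
      have h0 : mult (φ : D → ℂ) (1 : P →* ℂˣ) = 0 := (hor 1).2 fun h => ne_one_of_mem_orbit hlam h rfl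
      rw [h0]
      rw [hme φ 1, Nat.cast_eq_zero, Finset.sum_eq_zero_iff] at h0
      have h1 := h0 oneD (Finset.mem_univ _)
      have hm1 : m oneD 1 = 1 := by
        have h := hm oneD 1
        rw [show (fun x : P => (oneD : D₁ → ℂ) (ι x)) = lc (1 : P →* ℂˣ) from funext fun x => by
          simp [oneD, lc], inner_lc, if_pos rfl] at h
        exact_mod_cast h.symm
      rw [hm1, mul_one] at h1
      have := he φ oneD
      rw [h1, Nat.cast_zero] at this
      exact this
    · have hb := hP.no_big_constituent Ψ hΨ1 hΨc hΨu hn hl hθ hmem hφ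
      have hresφ : ∀ x : P, (φ : D → ℂ) x = mult (φ : D → ℂ) (1 : P →* ℂˣ) := by
        intro x
        show res P (φ : D → ℂ) x = _
        conv_lhs => rw [hP.expand (res P (φ : D → ℂ))]
        rw [Finset.sum_apply, Finset.sum_eq_single (1 : P →* ℂˣ) (fun d _ hd => ?_) (by simp)]
        · simp [lc, mult]
        · show mult (φ : D → ℂ) d * lc d x = 0
          rw [hb d hd, zero_mul]
      have h1 : ∀ x ∈ D₁, (φ : D → ℂ) x = (φ : D → ℂ) 1 := normalClosure_char_eq φ fun x hx => by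
        rw [hresφ ⟨x, hx⟩]
        exact (hresφ 1).symm
      rw [← hresφ 1]
      simp only [classInner, map_one, mul_one, OneMemClass.coe_one]
      rw [Finset.sum_congr rfl (fun (x : D₁) _ => h1 x x.2), Finset.sum_const, Finset.card_univ,
        nsmul_eq_mul, ← mul_assoc, ← Nat.card_eq_fintype_card,
        inv_mul_cancel₀ (by exact_mod_cast Nat.card_pos.ne'), one_mul]
  -- the norm on `D₁`
  have hnorm : ∑ η : IrrCharacter D₁, e θ η * e θ η = l := by
    have h1 : classInner (fun x : D₁ => (θ : D → ℂ) x) (fun x : D₁ => (θ : D → ℂ) x) = (l : ℂ) := by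
      have h2 : classInner (fun x : D₁ => (θ : D → ℂ) x) (fun x : D₁ => (θ : D → ℂ) x) =
          classInner (fun x : D₁ => f₁ x) (fun _ => 1) := by
        simp [classInner, hf₁]
      rw [h2, ← hm11, mult_expand (isClassFunction_of_isCharacter hc₁)]
      conv_lhs => rw [show (fun x : D₁ => f₁ x) =
        ∑ φ : IrrCharacter D, classInner f₁ (φ : D → ℂ) • fun x : D₁ => (φ : D → ℂ) x from funext fun x => by
          conv_lhs => rw [classFun_expand (isClassFunction_of_isCharacter hc₁)]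
          simp]
      rw [classInner_sum_left]
      refine Finset.sum_congr rfl fun φ _ => ?_
      rw [classInner_smul_left]
      rcases eq_or_ne (classInner f₁ (φ : D → ℂ)) 0 with h | h
      · rw [h, zero_mul, zero_mul]
      · rw [htriv φ h]
    rw [classInner_expand (h := fun x : D₁ => (θ : D → ℂ) x) (fun g h => isClassFunction_irr θ g h)] at h1
    simp only [he, Complex.conj_natCast] at h1
    exact_mod_cast h1
  have hdeg : ∀ η : IrrCharacter D₁, (η : D₁ → ℂ) 1 = ((∑ lam : P →* ℂˣ, m η lam : ℕ) : ℂ) := by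
    intro η
    have h := congrFun (hP.expand (fun x : P => (η : D₁ → ℂ) (ι x))) 1
    simp only [map_one] at h
    rw [h]
    simp [lc, hm]
  have hlin : ∀ η : IrrCharacter D₁, e θ η ≠ 0 → (η : D₁ → ℂ) 1 = 1 := by
    have hsum : ∑ η : IrrCharacter D₁, e θ η * ∑ lam : P →* ℂˣ, m η lam = l := by
      simp only [Finset.mul_sum]
      rw [Finset.sum_comm, hldef, Finset.card_eq_sum_ones,
        ← Finset.sum_subset (Finset.subset_univ O) fun lam _ hlam => ?_]
      · refine Finset.sum_congr rfl fun lam hlam => ?_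
        have h := (horb lam).1 hlam
        rw [hme] at h
        exact_mod_cast h
      · have h := (horb lam).2 hlam
        rw [hme] at h
        exact_mod_cast h
    have hpos : ∀ η : IrrCharacter D₁, 1 ≤ ∑ lam : P →* ℂˣ, m η lam := fun η => by
      refine Nat.one_le_iff_ne_zero.2 fun h => irr_one_ne_zero η ?_
      rw [hdeg, h, Nat.cast_zero]
    have he1 : ∀ η : IrrCharacter D₁, e θ η ≤ 1 := by
      intro η
      obtain ⟨lam, -, hlam⟩ := Finset.exists_ne_zero_of_sum_ne_zero
        (Nat.one_le_iff_ne_zero.1 (hpos η))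
      have hle : e θ η * m η lam ≤ ∑ η' : IrrCharacter D₁, e θ η' * m η' lam :=
        Finset.single_le_sum (f := fun η' => e θ η' * m η' lam) (fun _ _ => Nat.zero_le _)
          (Finset.mem_univ η)
      have hle1 : ∑ η' : IrrCharacter D₁, e θ η' * m η' lam ≤ 1 := by
        by_cases hmem : lam ∈ O
        · have h := (horb lam).1 hmem
          rw [hme] at h
          exact le_of_eq (by exact_mod_cast h)
        · have h := (horb lam).2 hmem
          rw [hme] at h
          exact le_trans (le_of_eq (by exact_mod_cast h)) (Nat.zero_le 1)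
      exact le_trans (Nat.le_mul_of_pos_right _ (Nat.pos_of_ne_zero hlam)) (hle.trans hle1)
    intro η hη
    have hle : ∀ η' : IrrCharacter D₁, e θ η' * e θ η' ≤ e θ η' * ∑ lam : P →* ℂˣ, m η' lam :=
      fun η' => Nat.mul_le_mul_left _ ((he1 η').trans (hpos η'))
    have heq := (Finset.sum_eq_sum_iff_of_le (fun η' (_ : η' ∈ Finset.univ) => hle η')).1
      (hnorm.trans hsum.symm) η (Finset.mem_univ η)
    have h1 : e θ η = ∑ lam : P →* ℂˣ, m η lam :=
      Nat.eq_of_mul_eq_mul_left (Nat.pos_of_ne_zero hη) heq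
    have h3 := he1 η
    rw [hdeg, show ∑ lam : P →* ℂˣ, m η lam = 1 by omega, Nat.cast_one]
  intro x hx y hy
  set c : D₁ := ⟨x, hx⟩ * ⟨y, hy⟩ * (⟨x, hx⟩ : D₁)⁻¹ * (⟨y, hy⟩ : D₁)⁻¹ with hc
  have hval : (fun z : D₁ => (θ : D → ℂ) z) c = (fun z : D₁ => (θ : D → ℂ) z) 1 := by
    rw [classFun_expand (f := fun z : D₁ => (θ : D → ℂ) z) fun g h => isClassFunction_irr θ g h]
    simp only [Finset.sum_apply, Pi.smul_apply]
    refine Finset.sum_congr rfl fun η _ => ?_
    rcases eq_or_ne (e θ η) 0 with h0 | h0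
    · rw [he, h0]; simp
    obtain ⟨f, hf⟩ := linearCharEquiv.surjective ⟨η, hlin η h0⟩
    have hf' : (η : D₁ → ℂ) = fun z => (f z : ℂ) := by
      have h1 : (linearCharEquiv f).1 = η := congrArg Subtype.val hf
      rw [← h1]
      rfl
    have hfc : f c = 1 := by
      rw [hc, map_mul, map_mul, map_mul, map_inv, map_inv, mul_comm (f ⟨x, hx⟩) (f ⟨y, hy⟩),
        mul_inv_cancel_right, mul_inv_cancel]
    rw [hf']
    simp only [hfc, map_one]
  exact hval

theorem normal_of_small (hP : CC P) {X : Type v} [MulAction D X] [Finite X]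
    [MulAction.IsPretransitive D X] (hfaith : ∀ g : D, (∀ b : X, g • b = b) → g = 1)
    (hcard : Nat.card P = Nat.card X) (hsemi : ∀ u ∈ P, ∀ b : X, u • b = b → u = 1)
    (h2 : ¬ MulAction.IsMultiplyPretransitive D X 2) (hn : 8 ≤ Nat.card X)
    (hl : P.relIndex (Subgroup.normalizer (P : Set D)) *
      (P.relIndex (Subgroup.normalizer (P : Set D)) - 1) ≤ Nat.card P - 1) : P.Normal := by
  classical
  obtain ⟨Ψ, hΨ1, -, hΨc, hΨu, hperm⟩ := hP.exists_family (by omega) hcard hsemi h2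
  set D₁ := Subgroup.normalClosure (P : Set D) with hD₁
  haveI : D₁.Normal := Subgroup.normalClosure_normal
  have hPD : P ≤ D₁ := fun x hx => Subgroup.subset_normalClosure hx
  have key : ∀ θ ∈ Ψ, ∀ x ∈ D₁, ∀ y ∈ D₁, (θ : D → ℂ) (x * y * x⁻¹ * y⁻¹) = (θ : D → ℂ) 1 :=
    fun θ hθ => hP.commutator_mem_ker Ψ hΨ1 hΨc hΨu (hcard ▸ hn) hl hθ
  -- hence `D₁` is abelian
  have hab : ∀ x ∈ D₁, ∀ y ∈ D₁, x * y = y * x := by
    intro x hx y hy
    have hfix : x * y * x⁻¹ * y⁻¹ = 1 := by
      refine hfaith _ fun b => ?_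
      have h1 : permChar D X (x * y * x⁻¹ * y⁻¹) = permChar D X 1 := by
        rw [hperm]
        simp only [Pi.add_apply, Finset.sum_apply]
        rw [Finset.sum_congr rfl fun ψ hψ => key ψ hψ x hx y hy]
      simp only [permChar, Nat.cast_inj] at h1
      rw [show Nat.card (MulAction.fixedBy X (1 : D)) = Nat.card X from
        Nat.card_congr (Equiv.subtypeUnivEquiv fun b => one_smul D b)] at h1
      have h3 : MulAction.fixedBy X (x * y * x⁻¹ * y⁻¹) = Set.univ :=
        Set.eq_of_subset_of_ncard_le (Set.subset_univ _)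
          (by rw [Set.ncard_univ, ← Nat.card_coe_set_eq, h1]) (Set.toFinite _)
      exact h3.ge (Set.mem_univ b)
    exact mul_inv_eq_iff_eq_mul.1 (mul_inv_eq_one.1 hfix)
  obtain ⟨u, hu, hu1⟩ : ∃ u ∈ P, u ≠ 1 := by
    by_contra hcon
    push Not at hcon
    have : P = ⊥ := (Subgroup.eq_bot_iff_forall P).2 hcon
    have h1 : Nat.card P = 1 := Subgroup.card_eq_one.2 this
    omega
  have hD₁P : D₁ = P := le_antisymm (fun x hx => hP.cent u hu hu1 x (hab x hx u (hPD hu))) hPD
  exact hD₁P ▸ inferInstance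

end CC

end CfsgLib.DerangeIndex
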