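import Cfsg.Agent.Lib.Perm.DerangeIndex.CC.Normal

/-!
A subgroup of this kind acting semiregularly with few orbits: either an irreducible character has degree
a small combination, or the commutators of its normal closure lie in a normal subgroup meeting it trivially.
-/

set_option autoImplicit false
set_option linter.unusedSectionVars false

open Cfsg CfsgLib.Char
open scoped ComplexConjugate

namespace CfsgLib.DerangeIndex

universe u v

variable {D : Type u} [Group D] [Fintype D] {P : Subgroup D} [Fintype P]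

namespace CC

theorem char_translate (χ : IrrCharacter D) {S : Set D} (h : ∀ x ∈ S, (χ : D → ℂ) x = (χ : D → ℂ) 1) :
    ∀ x ∈ Subgroup.normalClosure S, ∀ y, (χ : D → ℂ) (x * y) = (χ : D → ℂ) y := by
  obtain ⟨χ, n, ρ, hρ, rfl⟩ := χ
  intro x hx y
  have hle : Subgroup.normalClosure S ≤ ρ.ker := by
    refine Subgroup.normalClosure_le_normal fun z hz => ?_
    have h1 := h z hz
    simp only [Representation.char_one] at h1
    exact MonoidHom.mem_ker.2 ((char_eq_degree_iff ρ z).1 h1)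
  have h2 : ρ x = 1 := MonoidHom.mem_ker.1 (hle hx)
  show ρ.character (x * y) = ρ.character y
  simp only [Representation.character, map_mul, h2, one_mul]

/-- trivial commutators in the normal closure give normality -/
theorem normal_of_commutator (hP : CC P) (hbot : P ≠ ⊥)
    (h : ∀ x ∈ Subgroup.normalClosure (P : Set D), ∀ y ∈ Subgroup.normalClosure (P : Set D),
      x * y * x⁻¹ * y⁻¹ = 1) : P.Normal := by
  obtain ⟨u, hu, hu1⟩ := P.bot_or_exists_ne_one.resolve_left hbot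
  have hPD : P ≤ Subgroup.normalClosure (P : Set D) := fun x hx => Subgroup.subset_normalClosure hx
  have e : Subgroup.normalClosure (P : Set D) = P := le_antisymm
    (fun x hx => hP.cent u hu hu1 x (mul_inv_eq_iff_eq_mul.1 (mul_inv_eq_one.1 (h x hx u (hPD hu))))) hPD
  exact e ▸ Subgroup.normalClosure_normal

theorem semiregular_cases (hP : CC P) {X : Type v} [MulAction D X] [Finite X]
    [MulAction.IsPretransitive D X] {s : ℕ} (hs : 0 < s) (hcard : Nat.card X = s * Nat.card P)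
    (hsemi : ∀ u ∈ P, ∀ b : X, u • b = b → u = 1) (hn : 8 ≤ Nat.card P)
    (hl : P.relIndex (Subgroup.normalizer (P : Set D)) *
      (P.relIndex (Subgroup.normalizer (P : Set D)) - 1) ≤ Nat.card P - 1)
    (hbig : (2 * s + 2) * P.relIndex (Subgroup.normalizer (P : Set D)) ≤ Nat.card P - 1) :
    (∃ (χ : IrrCharacter D) (a b : ℕ), 1 ≤ b ∧ b ≤ a ∧ a ≤ s ∧
        (χ : D → ℂ) 1 = ((a * Nat.card P - b : ℕ) : ℂ) ∧
        (a = s → b = 1 → MulAction.IsMultiplyPretransitive D X 2)) ∨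
      (∃ K : Subgroup D, K.Normal ∧ (∀ x ∈ K, x ∈ P → x = 1) ∧
        ∀ x ∈ Subgroup.normalClosure (P : Set D), ∀ y ∈ Subgroup.normalClosure (P : Set D),
          x * y * x⁻¹ * y⁻¹ ∈ K) := by
  classical
  haveI := Fintype.ofFinite (IrrCharacter D)
  haveI := Fintype.ofFinite (P →* ℂˣ)
  obtain ⟨N, hN⟩ : ∃ N, N = Nat.card P := ⟨_, rfl⟩
  rw [← hN] at hn hcard hl hbig ⊢
  have hX : 2 ≤ Nat.card X := by
    rw [hcard]
    calc 2 ≤ 1 * N := by omega
      _ ≤ s * N := Nat.mul_le_mul_right N hs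
  set π : D → ℂ := permChar D X with hπ
  have hπc : IsCharacter D π := isCharacter_permChar X
  have hπ0 : ∀ x : P, x ≠ 1 → π (x : D) = 0 := fun x hx => by
    have : IsEmpty (MulAction.fixedBy X (x : D)) :=
      ⟨fun b => hx (Subtype.ext (hsemi x x.2 b.1 b.2))⟩
    simp [hπ, permChar, Nat.card_of_isEmpty]
  have hπ1 : π 1 = (Nat.card X : ℂ) := by
    simp only [hπ, permChar]
    congr 1
    exact Nat.card_congr (Equiv.subtypeUnivEquiv fun b => one_smul D b)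
  have hmπ : ∀ lam : P →* ℂˣ, mult π lam = (s : ℂ) := fun lam => by
    simp only [mult, classInner]
    rw [Finset.sum_eq_single (1 : P) (fun x _ hx => by simp [res, hπ0 x hx]) (by simp)]
    simp only [res, OneMemClass.coe_one, hπ1, lc, map_one, Units.val_one, mul_one, hcard, ← hN, Nat.cast_mul]
    have : (N : ℂ) ≠ 0 := by exact_mod_cast (by omega : N ≠ 0)
    field_simp
  obtain ⟨one, hone⟩ : ∃ one : IrrCharacter D, (one : D → ℂ) = fun _ => 1 :=
    ⟨⟨_, isIrrCharacter_one⟩, rfl⟩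
  have ha1 : classInner π (one : D → ℂ) = 1 := by
    rw [hone, hπ, classInner_permChar_one]
    haveI : Nontrivial X := Finite.one_lt_card_iff_nontrivial.mp (by omega)
    have : Subsingleton (MulAction.orbitRel.Quotient D X) :=
      MulAction.pretransitive_iff_subsingleton_quotient D X |>.mp inferInstance
    rw [Nat.card_of_subsingleton (Quotient.mk _ (Classical.arbitrary X))]
    simp
  have hA : ∀ χ : IrrCharacter D, ∃ a : ℕ, classInner π (χ : D → ℂ) = a :=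
    fun χ => classInner_char_irr_nat hπc χ
  choose a ha using hA
  have hM : ∀ (χ : IrrCharacter D) (lam : P →* ℂˣ), ∃ m : ℕ, mult (χ : D → ℂ) lam = m :=
    fun χ lam => mult_nat (isCharacter_irr χ) lam
  choose m hm using hM
  have hm1 : ∀ lam : P →* ℂˣ, mult (one : D → ℂ) lam = if (1 : P →* ℂˣ) = lam then 1 else 0 := by
    intro lam
    rw [mult, ← inner_lc (P := P) (1 : P →* ℂˣ) lam]
    congr 1
    funext x
    simp [res, hone, lc]
  have hsum : ∀ lam : P →* ℂˣ, ∑ χ ∈ Finset.univ.erase one, a χ * m χ lam + (if lam = 1 then 1 else 0) = s := by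
    intro lam
    have h := mult_expand (P := P) (isClassFunction_of_isCharacter hπc) lam
    rw [hmπ, ← Finset.sum_erase_add _ _ (Finset.mem_univ one), ha1, one_mul, hm1] at h
    simp only [ha, hm, eq_comm (a := (1 : P →* ℂˣ))] at h
    split_ifs with hl' <;> simp only [hl', if_true, if_false] at h ⊢ <;> exact_mod_cast h.symm
  have hdeg : ∀ χ : IrrCharacter D, (χ : D → ℂ) 1 = ((∑ lam : P →* ℂˣ, m χ lam : ℕ) : ℂ) := fun χ => by
    rw [hP.eval_one (χ : D → ℂ)]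
    simp [hm]
  have hdpos : ∀ χ : IrrCharacter D, ∑ lam : P →* ℂˣ, m χ lam ≠ 0 := fun χ h =>
    irr_one_ne_zero χ (by rw [hdeg, h, Nat.cast_zero])
  have hinv : ∀ (χ : IrrCharacter D) {lam mu : P →* ℂˣ}, mu ∈ orbit lam → m χ mu = m χ lam := fun χ lam mu h => by
    have h1 := mult_orbit (isClassFunction_irr χ) h
    rw [hm, hm] at h1
    exact_mod_cast h1
  have hcl : Fintype.card (P →* ℂˣ) = N := by rw [← Nat.card_eq_fintype_card, hP.card_lam, hN]
  have hne : (Finset.univ.erase (1 : P →* ℂˣ)).card = N - 1 := by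
    rw [Finset.card_erase_of_mem (Finset.mem_univ _), Finset.card_univ, hcl]
  by_cases hconst : ∀ χ : IrrCharacter D, a χ ≠ 0 → ∀ lam mu : P →* ℂˣ, lam ≠ 1 → mu ≠ 1 → m χ lam = m χ mu
  · -- a degree
    left
    obtain ⟨lam1, hlam1⟩ : ∃ lam1 : P →* ℂˣ, lam1 ≠ 1 := by
      obtain ⟨x, hx⟩ := Finset.card_pos.1 (show 0 < (Finset.univ.erase (1 : P →* ℂˣ)).card by omega)
      exact ⟨x, Finset.ne_of_mem_erase hx⟩
    have h1 := hsum lam1
    have h0 := hsum 1
    rw [if_neg hlam1, add_zero] at h1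
    rw [if_pos rfl] at h0
    obtain ⟨χ, hχ, hlt⟩ : ∃ χ ∈ Finset.univ.erase one, a χ * m χ 1 < a χ * m χ lam1 := by
      refine Finset.exists_lt_of_sum_lt ?_
      omega
    have haχ : a χ ≠ 0 := fun e => by rw [e] at hlt; simp at hlt
    have hm' : m χ 1 < m χ lam1 := Nat.lt_of_mul_lt_mul_left hlt
    have hsle : a χ * m χ lam1 ≤ s :=
      h1 ▸ Finset.single_le_sum (f := fun χ => a χ * m χ lam1) (fun _ _ => Nat.zero_le _) hχ
    have hale : m χ lam1 ≤ s := (Nat.le_mul_of_pos_left _ (Nat.pos_of_ne_zero haχ)).trans hsle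
    refine ⟨χ, m χ lam1, m χ lam1 - m χ 1, by omega, by omega, hale, ?_, fun hA hB => ?_⟩
    · rw [hdeg, ← Finset.sum_erase_add _ _ (Finset.mem_univ (1 : P →* ℂˣ)),
        Finset.sum_congr rfl (g := fun _ => m χ lam1) fun d hd => hconst χ haχ d lam1 (Finset.ne_of_mem_erase hd) hlam1,
        Finset.sum_const, hne, smul_eq_mul]
      congr 1
      obtain ⟨N', rfl⟩ : ∃ N', N = N' + 1 := ⟨N - 1, by omega⟩
      rw [Nat.add_sub_cancel, Nat.mul_add, mul_comm N', mul_one]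
      omega
    · have haχ1 : a χ = 1 := by
        rw [hA] at hsle
        exact le_antisymm (Nat.le_of_mul_le_mul_right (by rwa [one_mul]) hs) (Nat.pos_of_ne_zero haχ)
      have hothers : ∀ φ ∈ (Finset.univ.erase one).erase χ, a φ = 0 := by
        intro φ hφ
        rw [← Finset.add_sum_erase _ _ hχ, haχ1, one_mul] at h1 h0
        have z1 : ∑ φ ∈ (Finset.univ.erase one).erase χ, a φ * m φ lam1 = 0 := by omega
        have z0 : ∑ φ ∈ (Finset.univ.erase one).erase χ, a φ * m φ 1 = 0 := by omega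
        rw [Finset.sum_eq_zero_iff] at z1 z0
        by_contra haφ
        refine hdpos φ (Finset.sum_eq_zero fun d _ => ?_)
        rcases eq_or_ne d 1 with rfl | hd
        · exact (Nat.mul_eq_zero.1 (z0 φ hφ)).resolve_left haφ
        · rw [hconst φ haφ d lam1 hd hlam1]
          exact (Nat.mul_eq_zero.1 (z1 φ hφ)).resolve_left haφ
      refine (isIrr_permChar_sub_one_iff (G := D) X hX).1 ?_
      convert χ.2 using 1
      funext g
      have h := congrFun (classFun_expand (isClassFunction_of_isCharacter hπc)) g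
      rw [← Finset.add_sum_erase _ _ (Finset.mem_univ one), ← Finset.add_sum_erase _ _ hχ,
        Finset.sum_eq_zero fun φ hφ => by rw [ha, hothers φ hφ, Nat.cast_zero, zero_smul],
        ha1, ha, haχ1, Nat.cast_one, one_smul, one_smul, add_zero, hone] at h
      simp only [hπ, Pi.add_apply] at h
      rw [h]
      ring
  -- exceptional characters
  right
  push Not at hconst
  obtain ⟨ψ, haψ, lam₀', nu₀', hl₀', hn₀', hne₀⟩ := hconst
  obtain ⟨d, hd⟩ : ∃ d : (P →* ℂˣ) → (P →* ℂˣ) → IrrCharacter D → ℤ,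
      ∀ x y χ, d x y χ = (m χ x : ℤ) - m χ y := ⟨_, fun x y χ => rfl⟩
  have pair : ∀ x y : P →* ℂˣ, x ≠ 1 → y ≠ 1 → y ∉ orbit x → ∃ φ₁ φ₂ : IrrCharacter D, φ₁ ≠ φ₂ ∧
      d x y φ₁ = 1 ∧ d x y φ₂ = -1 ∧ (∀ χ, χ ≠ φ₁ → χ ≠ φ₂ → d x y χ = 0) ∧
      (∑ lam, m φ₁ lam) = ∑ lam, m φ₂ lam ∧ a φ₁ = a φ₂ := by
    intro x y hx hy hxy
    obtain ⟨Φ, hΦ⟩ : ∃ Φ, Φ = indFun P (lc x - lc y) := ⟨_, rfl⟩
    have hco : ∀ χ : IrrCharacter D, classInner Φ (χ : D → ℂ) = (d x y χ : ℂ) := fun χ => by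
      rw [← classInner_conj, hΦ, inner_irr_indFun _ (isClassFunction_irr χ), hm, hm, hd]
      simp
    have hΦc : IsClassFunction D Φ := hΦ ▸ isClassFunction_indFun _ _
    have hexp := classFun_expand (f := Φ) hΦc
    have hnorm := hP.norm_indFun hx hy hxy
    rw [← hΦ, classInner_expand hΦc] at hnorm
    simp only [hco, map_intCast, ← Int.cast_mul, ← Int.cast_sum] at hnorm
    have hsq : ∑ χ : IrrCharacter D, d x y χ * d x y χ = 2 := by exact_mod_cast hnorm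
    have hle : ∀ χ, d x y χ = 0 ∨ d x y χ = 1 ∨ d x y χ = -1 := by
      intro χ
      have h3 : d x y χ * d x y χ ≤ 2 :=
        hsq ▸ Finset.single_le_sum (f := fun χ => d x y χ * d x y χ) (fun i _ => mul_self_nonneg _) (Finset.mem_univ χ)
      have h4 : -1 ≤ d x y χ := by nlinarith
      have h5 : d x y χ ≤ 1 := by nlinarith
      omega
    set S := Finset.univ.filter fun χ => d x y χ ≠ 0 with hS
    have hScard : S.card = 2 := by
      have e : ∑ χ : IrrCharacter D, d x y χ * d x y χ = ∑ χ : IrrCharacter D, if d x y χ ≠ 0 then (1 : ℤ) else 0 :=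
        Finset.sum_congr rfl fun χ _ => by rcases hle χ with e | e | e <;> simp [e]
      rw [e, Finset.sum_boole] at hsq
      exact_mod_cast hsq
    obtain ⟨φ, φ', hφφ, hSab⟩ := Finset.card_eq_two.mp hScard
    have hz : ∀ χ, χ ≠ φ → χ ≠ φ' → d x y χ = 0 := fun χ h h' => by
      by_contra hne'
      have : χ ∈ S := Finset.mem_filter.2 ⟨Finset.mem_univ _, hne'⟩
      rw [hSab] at this
      simp [h, h'] at this
    have hφ : d x y φ ≠ 0 := (Finset.mem_filter.mp (show φ ∈ S by simp [hSab])).2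
    have hφ' : d x y φ' ≠ 0 := (Finset.mem_filter.mp (show φ' ∈ S by simp [hSab])).2
    have hzero : d x y φ * (∑ lam, m φ lam : ℕ) + d x y φ' * (∑ lam, m φ' lam : ℕ) = 0 := by
      have h1 : Φ 1 = 0 := by rw [hΦ, indFun_one]; simp [lc]
      have h2 := congrFun hexp 1
      simp only [Finset.sum_apply, Pi.smul_apply, smul_eq_mul, hco, h1, hdeg] at h2
      rw [← Finset.sum_subset (Finset.subset_univ {φ, φ'}) fun χ _ hχ => by
        simp only [Finset.mem_insert, Finset.mem_singleton, not_or] at hχ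
        simp [hz χ hχ.1 hχ.2], Finset.sum_pair hφφ] at h2
      exact_mod_cast h2.symm
    have haeq : (a φ : ℤ) * d x y φ + (a φ' : ℤ) * d x y φ' = 0 := by
      have h1 : classInner π Φ = mult π x - mult π y :=
        hΦ ▸ inner_irr_indFun _ (isClassFunction_of_isCharacter hπc) _ _
      rw [hmπ, hmπ, sub_self, classInner_expand hΦc] at h1
      simp only [ha, hco, map_intCast] at h1
      rw [← Finset.sum_subset (Finset.subset_univ {φ, φ'}) fun χ _ hχ => by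
        simp only [Finset.mem_insert, Finset.mem_singleton, not_or] at hχ
        simp [hz χ hχ.1 hχ.2], Finset.sum_pair hφφ] at h1
      exact_mod_cast h1
    have hp := Nat.pos_of_ne_zero (hdpos φ)
    have hp' := Nat.pos_of_ne_zero (hdpos φ')
    rcases hle φ with e | e | e
    · exact absurd e hφ
    · rcases hle φ' with e' | e' | e'
      · exact absurd e' hφ'
      · rw [e, e'] at hzero; omega
      · rw [e, e'] at hzero haeq
        exact ⟨φ, φ', hφφ, e, e', hz, by omega, by omega⟩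
    · rcases hle φ' with e' | e' | e'
      · exact absurd e' hφ'
      · rw [e, e'] at hzero haeq
        exact ⟨φ', φ, hφφ.symm, e', e, fun χ h h' => hz χ h' h, by omega, by omega⟩
      · rw [e, e'] at hzero; omega
  -- two values differing by one
  obtain ⟨lam₀, nu₀, hl₀, hn₀, hgap⟩ : ∃ x y : P →* ℂˣ, x ≠ 1 ∧ y ≠ 1 ∧ m ψ x = m ψ y + 1 := by
    obtain ⟨φ₁, φ₂, -, e1, e2, hz, -, -⟩ := pair lam₀' nu₀' hl₀' hn₀' fun h => hne₀ (hinv ψ h).symm
    rw [hd] at e1 e2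
    by_cases h1 : ψ = φ₁
    · exact ⟨lam₀', nu₀', hl₀', hn₀', by rw [h1]; omega⟩
    by_cases h2 : ψ = φ₂
    · exact ⟨nu₀', lam₀', hn₀', hl₀', by rw [h2]; omega⟩
    have := hz ψ h1 h2
    rw [hd] at this
    omega
  obtain ⟨c, hc⟩ : ∃ c, c = m ψ nu₀ := ⟨_, rfl⟩
  rw [← hc] at hgap
  have hval : ∀ x : P →* ℂˣ, x ≠ 1 → m ψ x = c ∨ m ψ x = c + 1 := by
    intro x hx
    have key : ∀ y : P →* ℂˣ, y ≠ 1 → (m ψ x : ℤ) - m ψ y ≤ 1 ∧ (m ψ y : ℤ) - m ψ x ≤ 1 := by
      intro y hy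
      by_cases h : y ∈ orbit x
      · rw [hinv ψ h]; omega
      obtain ⟨φ₁, φ₂, -, e1, e2, hz, -, -⟩ := pair x y hx hy h
      rw [hd] at e1 e2
      by_cases h1 : ψ = φ₁
      · rw [← h1] at e1; omega
      by_cases h2 : ψ = φ₂
      · rw [← h2] at e2; omega
      have := hz ψ h1 h2
      rw [hd] at this
      omega
    have k1 := key nu₀ hn₀
    have k2 := key lam₀ hl₀
    omega
  -- the partner
  obtain ⟨S1, hS1⟩ : ∃ S1 : Finset (P →* ℂˣ), ∀ x, x ∈ S1 ↔ x ≠ 1 ∧ m ψ x = c + 1 :=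
    ⟨Finset.univ.filter fun x => x ≠ 1 ∧ m ψ x = c + 1, fun x => by simp⟩
  obtain ⟨S0, hS0⟩ : ∃ S0 : Finset (P →* ℂˣ), ∀ x, x ∈ S0 ↔ x ≠ 1 ∧ m ψ x = c :=
    ⟨Finset.univ.filter fun x => x ≠ 1 ∧ m ψ x = c, fun x => by simp⟩
  have horb : ∀ x ∈ S1, ∀ y ∈ S0, y ∉ orbit x := fun x hx y hy h => by
    have := hinv ψ h
    rw [((hS1 x).1 hx).2, ((hS0 y).1 hy).2] at this
    omega
  have partner : ∀ x ∈ S1, ∀ y ∈ S0, ∃ φ : IrrCharacter D, φ ≠ ψ ∧ m φ y = m φ x + 1 ∧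
      (∀ χ, χ ≠ ψ → χ ≠ φ → m χ x = m χ y) ∧ (∑ lam, m φ lam) = ∑ lam, m ψ lam ∧ a φ = a ψ := by
    intro x hx y hy
    obtain ⟨φ₁, φ₂, hne12, e1, e2, hz, hdeg', haeq⟩ :=
      pair x y ((hS1 x).1 hx).1 ((hS0 y).1 hy).1 (horb x hx y hy)
    rw [hd] at e1 e2
    have h1 : ψ = φ₁ := by
      by_contra h1
      by_cases h2 : ψ = φ₂
      · rw [← h2, ((hS1 x).1 hx).2, ((hS0 y).1 hy).2] at e2; omega
      have := hz ψ h1 h2
      rw [hd, ((hS1 x).1 hx).2, ((hS0 y).1 hy).2] at this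
      omega
    subst h1
    refine ⟨φ₂, hne12.symm, by omega, fun χ h h' => ?_, hdeg'.symm, haeq.symm⟩
    have := hz χ h h'
    rw [hd] at this
    omega
  haveI : Nonempty (IrrCharacter D) := ⟨one⟩
  choose! Φ hΦne hΦy hΦz hΦdeg hΦa using partner
  -- distinct orbits have distinct partners
  have hdist1 : ∀ x ∈ S1, ∀ x' ∈ S1, ∀ y ∈ S0, Φ x y = Φ x' y → x' ∈ orbit x := by
    intro x hx x' hx' y hy he
    by_contra h
    obtain ⟨φ₁, φ₂, -, e1, -, -, -, -⟩ := pair x x' ((hS1 x).1 hx).1 ((hS1 x').1 hx').1 h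
    rw [hd] at e1
    by_cases h1 : φ₁ = ψ
    · rw [h1, ((hS1 x).1 hx).2, ((hS1 x').1 hx').2] at e1; omega
    by_cases h2 : φ₁ = Φ x y
    · have a1 := hΦy x hx y hy
      have a2 := hΦy x' hx' y hy
      rw [← he, ← h2] at a2
      rw [← h2] at a1
      omega
    have a1 := hΦz x hx y hy φ₁ h1 h2
    have a2 := hΦz x' hx' y hy φ₁ h1 (he ▸ h2)
    omega
  have hdist0 : ∀ x ∈ S1, ∀ y ∈ S0, ∀ y' ∈ S0, Φ x y = Φ x y' → y' ∈ orbit y := by
    intro x hx y hy y' hy' he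
    by_contra h
    obtain ⟨φ₁, φ₂, -, e1, -, -, -, -⟩ := pair y y' ((hS0 y).1 hy).1 ((hS0 y').1 hy').1 h
    rw [hd] at e1
    by_cases h1 : φ₁ = ψ
    · rw [h1, ((hS0 y).1 hy).2, ((hS0 y').1 hy').2] at e1; omega
    by_cases h2 : φ₁ = Φ x y
    · have a1 := hΦy x hx y hy
      have a2 := hΦy x hx y' hy'
      rw [← he, ← h2] at a2
      rw [← h2] at a1
      omega
    have a1 := hΦz x hx y hy φ₁ h1 h2
    have a2 := hΦz x hx y' hy' φ₁ h1 (he ▸ h2)
    omega
  -- one side is a single orbit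
  have hnu0 : nu₀ ∈ S0 := (hS0 _).2 ⟨hn₀, hc.symm⟩
  have hlam0 : lam₀ ∈ S1 := (hS1 _).2 ⟨hl₀, hgap⟩
  obtain ⟨l, hldef⟩ : ∃ l, l = P.relIndex (Subgroup.normalizer (P : Set D)) := ⟨_, rfl⟩
  rw [← hldef] at hl hbig
  have hlor : ∀ x : P →* ℂˣ, x ≠ 1 → (orbit x).card = l := fun x hx => by rw [hP.card_orbit hx, hldef]
  have hcount : S1.card + S0.card = N - 1 := by
    rw [← hne, ← Finset.card_union_of_disjoint (Finset.disjoint_left.2 fun x h h' => by
      rw [hS1] at h; rw [hS0] at h'; omega)]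
    congr 1
    ext x
    simp only [Finset.mem_union, hS1, hS0, Finset.mem_erase, Finset.mem_univ, and_true]
    exact ⟨fun h => h.elim And.left And.left, fun h => (hval x h).elim (fun e => Or.inr ⟨h, e⟩) fun e => Or.inl ⟨h, e⟩⟩
  have hS1orb : ∀ x ∈ S1, x ∈ orbit lam₀ := by
    by_contra hcon
    push Not at hcon
    obtain ⟨lam', hlam', hlne⟩ := hcon
    by_cases hS0orb : ∀ y ∈ S0, y ∈ orbit nu₀
    · -- too many constituents at one character
      have h1 : S1.card ≤ l * (S1.image fun x => Φ x nu₀).card := by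
        refine Finset.card_le_mul_card_image _ _ fun φ hφ => ?_
        obtain ⟨x, hx, rfl⟩ := Finset.mem_image.1 hφ
        rw [← hlor x ((hS1 x).1 hx).1]
        refine Finset.card_le_card fun z hz => ?_
        obtain ⟨hz1, hz2⟩ := Finset.mem_filter.1 hz
        exact hdist1 x hx z hz1 nu₀ hnu0 hz2.symm
      have h2 : (S1.image fun x => Φ x nu₀).card ≤ s := by
        have h := hsum nu₀
        rw [if_neg hn₀, add_zero] at h
        rw [← h, Finset.card_eq_sum_ones]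
        refine le_trans (Finset.sum_le_sum (g := fun χ => a χ * m χ nu₀) fun φ hφ => ?_)
          (Finset.sum_le_sum_of_subset fun φ hφ => ?_)
        · obtain ⟨x, hx, rfl⟩ := Finset.mem_image.1 hφ
          rw [hΦa x hx nu₀ hnu0, hΦy x hx nu₀ hnu0]
          exact Nat.mul_pos (Nat.pos_of_ne_zero haψ) (Nat.succ_pos _)
        · obtain ⟨x, hx, rfl⟩ := Finset.mem_image.1 hφ
          refine Finset.mem_erase.2 ⟨fun e => ?_, Finset.mem_univ _⟩
          have h' := hΦy x hx nu₀ hnu0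
          have e1 := hm1 nu₀
          rw [e] at h'
          rw [hm, if_neg (Ne.symm hn₀), Nat.cast_eq_zero] at e1
          omega
      have h3 : S0.card ≤ l := hlor nu₀ hn₀ ▸ Finset.card_le_card hS0orb
      have h4 : l * (S1.image fun x => Φ x nu₀).card ≤ l * s := Nat.mul_le_mul_left _ h2
      have h5 : (2 * s + 2) * l = 2 * (l * s) + 2 * l := by ring
      have h6 : 0 < l * s + l := by
        have := hlor nu₀ hn₀ ▸ Finset.card_pos.2 ⟨nu₀, hP.self_mem_orbit nu₀⟩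
        omega
      omega
    · push Not at hS0orb
      obtain ⟨nu', hnu', hnne⟩ := hS0orb
      obtain ⟨φ₁, φ₂, hne12, -, -, hz, -, -⟩ := pair lam₀ lam' hl₀ ((hS1 _).1 hlam').1 hlne
      refine hnne (hdist0 lam₀ hlam0 nu₀ hnu0 nu' hnu' ?_)
      -- both partners are read off the same difference
      have key : ∀ y ∈ S0, d lam₀ lam' (Φ lam₀ y) = -1 := by
        intro y hy
        have hne' : Φ lam₀ y ≠ Φ lam' y := fun e => hlne (hdist1 lam₀ hlam0 lam' hlam' y hy e)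
        have a1 := hΦy lam₀ hlam0 y hy
        have a2 := hΦz lam' hlam' y hy (Φ lam₀ y) (hΦne lam₀ hlam0 y hy) hne'
        rw [hd]
        omega
      by_contra hne'
      have k1 := key nu₀ hnu0
      have k2 := key nu' hnu'
      obtain ⟨ψ₁, ψ₂, -, e1, -, hz', -, -⟩ := pair lam₀ lam' hl₀ ((hS1 _).1 hlam').1 hlne
      by_cases q1 : Φ lam₀ nu₀ = ψ₁
      · rw [q1] at k1; omega
      by_cases q2 : Φ lam₀ nu' = ψ₁
      · rw [q2] at k2; omega
      by_cases q3 : Φ lam₀ nu₀ = ψ₂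
      · have := hz' _ q2 (fun e => hne' (q3.trans e.symm))
        omega
      · have := hz' _ q1 q3
        omega
  -- the family
  obtain ⟨Ψ, hΨ⟩ : ∃ Ψ : Finset (IrrCharacter D), Ψ = insert ψ (S0.image fun y => Φ lam₀ y) := ⟨_, rfl⟩
  have hother : ∀ y ∈ S0, ∀ x : P →* ℂˣ, x ≠ 1 → x ∉ orbit y → m (Φ lam₀ y) x = m (Φ lam₀ y) lam₀ := by
    intro y hy x hx hxy
    rcases hval x hx with e | e
    · have hx0 : x ∈ S0 := (hS0 x).2 ⟨hx, e⟩
      refine (hΦz lam₀ hlam0 x hx0 _ (hΦne lam₀ hlam0 y hy) fun e' => hxy ?_).symm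
      exact hdist0 lam₀ hlam0 y hy x hx0 e'
    · exact hinv _ (hS1orb x ((hS1 x).2 ⟨hx, e⟩))
  have hψother : ∀ x : P →* ℂˣ, x ≠ 1 → x ∉ orbit lam₀ → m ψ x = c := fun x hx hxy =>
    (hval x hx).resolve_right fun e => hxy (hS1orb x ((hS1 x).2 ⟨hx, e⟩))
  have hS0card : N - 1 ≤ l + S0.card := by
    rw [← hcount]
    exact Nat.add_le_add_right (hlor lam₀ hl₀ ▸ Finset.card_le_card hS1orb) _
  -- some member is exact, so all degrees are the orbit length
  obtain ⟨y₁, hy₁, hg1, hg0⟩ : ∃ y ∈ S0, m (Φ lam₀ y) lam₀ = 0 ∧ m (Φ lam₀ y) 1 = 0 := by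
    by_contra hcon
    push Not at hcon
    have h1 : S0.card ≤ l * (S0.image fun y => Φ lam₀ y).card := by
      refine Finset.card_le_mul_card_image _ _ fun φ hφ => ?_
      obtain ⟨y, hy, rfl⟩ := Finset.mem_image.1 hφ
      rw [← hlor y ((hS0 y).1 hy).1]
      refine Finset.card_le_card fun z hz => ?_
      obtain ⟨hz1, hz2⟩ := Finset.mem_filter.1 hz
      exact hdist0 lam₀ hlam0 y hy z hz1 hz2.symm
    have h2 : (S0.image fun y => Φ lam₀ y).card ≤
        ∑ φ ∈ Finset.univ.erase one, (a φ * m φ lam₀ + a φ * m φ 1) := by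
      rw [Finset.card_eq_sum_ones]
      refine le_trans (Finset.sum_le_sum (g := fun φ => a φ * m φ lam₀ + a φ * m φ 1) fun φ hφ => ?_)
        (Finset.sum_le_sum_of_subset fun φ hφ => ?_)
      · obtain ⟨y, hy, rfl⟩ := Finset.mem_image.1 hφ
        rw [hΦa lam₀ hlam0 y hy, ← mul_add]
        refine Nat.mul_pos (Nat.pos_of_ne_zero haψ) ?_
        rcases Nat.eq_zero_or_pos (m (Φ lam₀ y) lam₀) with e | e
        · have := hcon y hy e; omega
        · omega
      · obtain ⟨y, hy, rfl⟩ := Finset.mem_image.1 hφ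
        refine Finset.mem_erase.2 ⟨fun e => ?_, Finset.mem_univ _⟩
        have h' := hΦy lam₀ hlam0 y hy
        have e1 := hm1 y
        rw [e] at h'
        rw [hm, if_neg (Ne.symm ((hS0 y).1 hy).1), Nat.cast_eq_zero] at e1
        omega
    have a1 := hsum lam₀
    have a0 := hsum 1
    rw [if_neg hl₀] at a1
    rw [if_pos rfl] at a0
    rw [Finset.sum_add_distrib] at h2
    have h4 : l * (S0.image fun y => Φ lam₀ y).card ≤ l * (2 * s) := Nat.mul_le_mul_left _ (by omega)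
    have h5 : (2 * s + 2) * l = l * (2 * s) + 2 * l := by ring
    have h6 : 0 < l := hlor lam₀ hl₀ ▸ Finset.card_pos.2 ⟨lam₀, hP.self_mem_orbit lam₀⟩
    omega
  have hshape : ∀ (θ : IrrCharacter D) (x₀ : P →* ℂˣ) (b : ℕ), x₀ ≠ 1 →
      (∀ x, x ≠ 1 → m θ x = b + if x ∈ orbit x₀ then 1 else 0) →
      ∑ lam, m θ lam = m θ 1 + (b * (N - 1) + l) := by
    intro θ x₀ b hx₀ h
    rw [← Finset.add_sum_erase _ _ (Finset.mem_univ (1 : P →* ℂˣ)),
      Finset.sum_congr rfl (g := fun x => b + if x ∈ orbit x₀ then 1 else 0) fun x hx => h x (Finset.ne_of_mem_erase hx),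
      Finset.sum_add_distrib, Finset.sum_const, hne, smul_eq_mul, Finset.sum_boole, mul_comm (N - 1)]
    congr 2
    rw [← hlor x₀ hx₀, Nat.cast_id]
    congr 1
    ext x
    simp only [Finset.mem_filter, Finset.mem_erase, Finset.mem_univ, and_true]
    exact ⟨And.right, fun h => ⟨ne_one_of_mem_orbit hx₀ h, h⟩⟩
  have hΦshape : ∀ y ∈ S0, ∀ x, x ≠ 1 →
      m (Φ lam₀ y) x = m (Φ lam₀ y) lam₀ + if x ∈ orbit y then 1 else 0 := by
    intro y hy x hx
    split_ifs with h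
    · rw [hinv _ h, hΦy lam₀ hlam0 y hy]
    · rw [add_zero, hother y hy x hx h]
  have hψdeg : ∑ lam, m ψ lam = l := by
    rw [← hΦdeg lam₀ hlam0 y₁ hy₁, hshape _ y₁ _ ((hS0 _).1 hy₁).1 (hΦshape y₁ hy₁), hg0, hg1]
    omega
  have hψ0 : c = 0 ∧ m ψ 1 = 0 := by
    have h := hshape ψ lam₀ c hl₀ fun x hx => by
      split_ifs with h
      · rw [hinv _ h, hgap]
      · rw [add_zero, hψother x hx h]
    rw [hψdeg] at h
    rcases Nat.eq_zero_or_pos c with e | e
    · exact ⟨e, by subst e; omega⟩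
    · have : N - 1 ≤ c * (N - 1) := Nat.le_mul_of_pos_left _ e
      omega
  have hΦ0 : ∀ y ∈ S0, m (Φ lam₀ y) lam₀ = 0 ∧ m (Φ lam₀ y) 1 = 0 := by
    intro y hy
    have h := hshape _ y _ ((hS0 y).1 hy).1 (hΦshape y hy)
    rw [hΦdeg lam₀ hlam0 y hy, hψdeg] at h
    rcases Nat.eq_zero_or_pos (m (Φ lam₀ y) lam₀) with e | e
    · exact ⟨e, by rw [e] at h; omega⟩
    · have : N - 1 ≤ m (Φ lam₀ y) lam₀ * (N - 1) := Nat.le_mul_of_pos_left _ e
      omega
  have hmem : ∀ θ ∈ Ψ, ∃ x₀ : P →* ℂˣ, x₀ ≠ 1 ∧ (θ = ψ ∧ x₀ = lam₀ ∨ x₀ ∈ S0 ∧ θ = Φ lam₀ x₀) ∧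
      ∀ x, m θ x = if x ∈ orbit x₀ then 1 else 0 := by
    intro θ hθ
    rw [hΨ, Finset.mem_insert, Finset.mem_image] at hθ
    rcases hθ with rfl | ⟨y, hy, rfl⟩
    · refine ⟨lam₀, hl₀, Or.inl ⟨rfl, rfl⟩, fun x => ?_⟩
      rcases eq_or_ne x 1 with rfl | hx
      · rw [hψ0.2, if_neg fun h => ne_one_of_mem_orbit hl₀ h rfl]
      split_ifs with h
      · rw [hinv _ h, hgap, hψ0.1]
      · rw [hψother x hx h, hψ0.1]
    · refine ⟨y, ((hS0 y).1 hy).1, Or.inr ⟨hy, rfl⟩, fun x => ?_⟩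
      rcases eq_or_ne x 1 with rfl | hx
      · rw [(hΦ0 y hy).2, if_neg fun h => ne_one_of_mem_orbit ((hS0 y).1 hy).1 h rfl]
      rw [hΦshape y hy x hx, (hΦ0 y hy).1, zero_add]
  have hΨ1 : ∀ θ ∈ Ψ, ∃ lam : P →* ℂˣ, lam ≠ 1 ∧
      ∀ mu : P →* ℂˣ, (mu ∈ orbit lam → mult (θ : D → ℂ) mu = 1) ∧
        (mu ∉ orbit lam → mult (θ : D → ℂ) mu = 0) := by
    intro θ hθ
    obtain ⟨x₀, hx₀, -, hmθ⟩ := hmem θ hθ
    exact ⟨x₀, hx₀, fun mu => ⟨fun h => by rw [hm, hmθ, if_pos h, Nat.cast_one],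
      fun h => by rw [hm, hmθ, if_neg h, Nat.cast_zero]⟩⟩
  have hΨc : ∀ χ : IrrCharacter D, χ ∉ Ψ → ∀ lam mu : P →* ℂˣ, lam ≠ 1 → mu ≠ 1 →
      mult (χ : D → ℂ) lam = mult (χ : D → ℂ) mu := by
    intro χ hχ
    rw [hΨ, Finset.mem_insert, Finset.mem_image, not_or] at hχ
    have key : ∀ x : P →* ℂˣ, x ≠ 1 → m χ x = m χ lam₀ := by
      intro x hx
      rcases hval x hx with e | e
      · have hx0 : x ∈ S0 := (hS0 x).2 ⟨hx, e⟩
        exact (hΦz lam₀ hlam0 x hx0 χ hχ.1 fun e' => hχ.2 ⟨x, hx0, e'.symm⟩).symm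
      · exact hinv _ (hS1orb x ((hS1 x).2 ⟨hx, e⟩))
    intro x y hx hy
    rw [hm, hm, key x hx, key y hy]
  have hΨu : ∀ θ ∈ Ψ, ∀ θ' ∈ Ψ, ∀ lam : P →* ℂˣ, mult (θ : D → ℂ) lam ≠ 0 →
      mult (θ' : D → ℂ) lam ≠ 0 → θ = θ' := by
    intro θ hθ θ' hθ' lam h h'
    obtain ⟨x, hx, hx', hmx⟩ := hmem θ hθ
    obtain ⟨z, hz, hz', hmz⟩ := hmem θ' hθ'
    rw [hm, hmx, Nat.cast_ne_zero] at h
    rw [hm, hmz, Nat.cast_ne_zero] at h'
    have e1 : lam ∈ orbit x := by by_contra e; simp [e] at h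
    have e2 : lam ∈ orbit z := by by_contra e; simp [e] at h'
    have hxz : z ∈ orbit x := by
      rw [← orbit_eq_of_mem e1, orbit_eq_of_mem e2]
      exact hP.self_mem_orbit z
    rcases hx' with ⟨rfl, rfl⟩ | ⟨hxS, rfl⟩ <;> rcases hz' with ⟨rfl, rfl⟩ | ⟨hzS, rfl⟩
    · rfl
    · exact absurd hxz (horb _ hlam0 z hzS)
    · refine absurd ?_ (horb _ hlam0 x hxS)
      rw [orbit_eq_of_mem hxz]
      exact hP.self_mem_orbit x
    · by_contra hne'
      have a1 : m (Φ lam₀ x) z = 1 := by rw [hmx, if_pos hxz]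
      have a2 := hΦz lam₀ hlam0 z hzS (Φ lam₀ x) (hΦne lam₀ hlam0 x hxS) hne'
      rw [a1, (hΦ0 x hxS).1] at a2
      omega
  refine ⟨Subgroup.normalClosure {g | ∃ x ∈ Subgroup.normalClosure (P : Set D),
      ∃ y ∈ Subgroup.normalClosure (P : Set D), g = x * y * x⁻¹ * y⁻¹}, Subgroup.normalClosure_normal,
    fun x hxK hxP => ?_, fun x hx y hy => Subgroup.subset_normalClosure ⟨x, hx, y, hy, rfl⟩⟩
  by_contra hx1
  obtain ⟨lam, hlam⟩ : ∃ lam : P →* ℂˣ, lam ⟨x, hxP⟩ ≠ 1 := by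
    letI : CommGroup P := { (inferInstance : Group P) with
      mul_comm := fun a b => Subtype.ext (hP.comm a a.2 b b.2) }
    exact CommGroup.exists_apply_ne_one_of_hasEnoughRootsOfUnity P ℂ (a := ⟨x, hxP⟩)
      (fun e => hx1 (congrArg Subtype.val e))
  have hl1 : lam ≠ 1 := fun e => hlam (by rw [e]; rfl)
  obtain ⟨θ, hθ, hθ1⟩ : ∃ θ ∈ Ψ, m θ lam = 1 := by
    rcases hval lam hl1 with e | e
    · refine ⟨Φ lam₀ lam, hΨ ▸ Finset.mem_insert_of_mem (Finset.mem_image_of_mem _ ((hS0 _).2 ⟨hl1, e⟩)), ?_⟩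
      rw [hΦy lam₀ hlam0 lam ((hS0 _).2 ⟨hl1, e⟩), (hΦ0 lam ((hS0 _).2 ⟨hl1, e⟩)).1]
    · refine ⟨ψ, hΨ ▸ Finset.mem_insert_self _ _, ?_⟩
      rw [e, hψ0.1]
  have hker := char_translate θ (S := {g | ∃ x ∈ Subgroup.normalClosure (P : Set D),
      ∃ y ∈ Subgroup.normalClosure (P : Set D), g = x * y * x⁻¹ * y⁻¹})
    (by
      rintro g ⟨x, hx, y, hy, rfl⟩
      exact hP.commutator_mem_ker Ψ hΨ1 hΨc hΨu (hN ▸ hn) (by rw [← hldef, ← hN]; exact hl) hθ x hx y hy) x hxK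
  have key : mult (θ : D → ℂ) lam * ((lam ⟨x, hxP⟩ : ℂˣ) : ℂ) = mult (θ : D → ℂ) lam := by
    simp only [mult, classInner, mul_assoc, Finset.sum_mul]
    congr 1
    refine Fintype.sum_equiv (Equiv.mulLeft (⟨x, hxP⟩ : P)⁻¹) _ _ fun y => ?_
    show (θ : D → ℂ) y * (conj (lc lam y) * (lam ⟨x, hxP⟩ : ℂ)) =
      (θ : D → ℂ) (((⟨x, hxP⟩ : P)⁻¹ * y : P) : D) * conj (lc lam ((⟨x, hxP⟩ : P)⁻¹ * y))
    rw [show (θ : D → ℂ) (((⟨x, hxP⟩ : P)⁻¹ * y : P) : D) = (θ : D → ℂ) y by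
      conv_rhs => rw [show ((y : P) : D) = x * ((x : D)⁻¹ * y) by group, hker]
      rfl]
    congr 1
    rw [conj_lc, conj_lc]
    simp [lc, mul_comm]
  rw [hm, hθ1, Nat.cast_one, one_mul] at key
  exact hlam (Units.ext key)

end CC

end CfsgLib.DerangeIndex
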