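import Cfsg.Agent.Lib.Perm.DerangeIndex.CC.Family
import Mathlib.Data.Finset.Sym
import Mathlib.Data.Sym.Card

/-!
The product of an exceptional character with its conjugate has no constituent, outside the exceptional
ones, whose restriction to `P` involves a nontrivial character.
-/

set_option autoImplicit false
set_option linter.unusedSectionVars false

open Cfsg CfsgLib.Char
open scoped ComplexConjugate

namespace CfsgLib.DerangeIndex

universe u v

variable {D : Type u} [Group D] [Fintype D] {P : Subgroup D} [Fintype P]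

namespace CC

theorem lc_mul (lam mu : P →* ℂˣ) : lc (lam * mu) = fun x => lc lam x * lc mu x := by
  funext x
  simp [lc]

theorem conj_lc (lam : P →* ℂˣ) (x : P) : conj (lc lam x) = lc lam⁻¹ x := by
  have h : (lam x : ℂˣ) ^ Fintype.card P = 1 := by
    rw [← map_pow, pow_card_eq_one, map_one]
  have h' : ((lam x : ℂˣ) : ℂ) ^ Fintype.card P = 1 := by
    rw [← Units.val_pow_eq_pow_val, h, Units.val_one]
  show conj ((lam x : ℂˣ) : ℂ) = _
  rw [conj_eq_inv_of_pow_eq_one Fintype.card_ne_zero h']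
  simp [lc]

/-- The restriction of an exceptional character. -/
theorem res_of_orbit (hP : CC P) (f : D → ℂ) (lam : P →* ℂˣ)
    (h : ∀ mu : P →* ℂˣ, (mu ∈ orbit lam → mult f mu = 1) ∧ (mu ∉ orbit lam → mult f mu = 0)) :
    res P f = ∑ mu ∈ orbit lam, lc mu := by
  classical
  haveI := Fintype.ofFinite (P →* ℂˣ)
  conv_lhs => rw [hP.expand (res P f)]
  rw [← Finset.sum_subset (Finset.subset_univ (orbit lam))]
  · refine Finset.sum_congr rfl fun mu hmu => ?_
    rw [show classInner (res P f) (lc mu) = 1 from (h mu).1 hmu, one_smul]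
  · intro mu _ hmu
    rw [show classInner (res P f) (lc mu) = 0 from (h mu).2 hmu, zero_smul]

theorem mult_sum_pairs (f : D → ℂ) (s : Finset (P →* ℂˣ)) (g : (P →* ℂˣ) × (P →* ℂˣ) → (P →* ℂˣ))
    (hf : res P f = ∑ p ∈ s ×ˢ s, lc (g p)) [DecidableEq (P →* ℂˣ)] (d : P →* ℂˣ) :
    mult f d = (((s ×ˢ s).filter fun p => g p = d).card : ℂ) := by
  rw [mult, hf, classInner_sum_left]
  simp [inner_lc]

theorem card_lam (hP : CC P) : Nat.card (P →* ℂˣ) = Nat.card P := by
  letI : CommGroup P := { (inferInstance : Group P) with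
    mul_comm := fun a b => Subtype.ext (hP.comm a a.2 b b.2) }
  exact CommGroup.card_monoidHom_of_hasEnoughRootsOfUnity P ℂ

theorem no_big_constituent (hP : CC P) (Ψ : Finset (IrrCharacter D))
    (hΨ1 : ∀ ψ ∈ Ψ, ∃ lam : P →* ℂˣ, lam ≠ 1 ∧
        ∀ mu : P →* ℂˣ, (mu ∈ orbit lam → mult (ψ : D → ℂ) mu = 1) ∧
          (mu ∉ orbit lam → mult (ψ : D → ℂ) mu = 0))
    (hΨc : ∀ χ : IrrCharacter D, χ ∉ Ψ → ∀ lam mu : P →* ℂˣ, lam ≠ 1 → mu ≠ 1 →
        mult (χ : D → ℂ) lam = mult (χ : D → ℂ) mu)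
    (hΨu : ∀ ψ ∈ Ψ, ∀ ψ' ∈ Ψ, ∀ lam : P →* ℂˣ, mult (ψ : D → ℂ) lam ≠ 0 →
        mult (ψ' : D → ℂ) lam ≠ 0 → ψ = ψ')
    (hn : 8 ≤ Nat.card P)
    (hl : P.relIndex (Subgroup.normalizer (P : Set D)) *
      (P.relIndex (Subgroup.normalizer (P : Set D)) - 1) ≤ Nat.card P - 1)
    {θ : IrrCharacter D} (hθ : θ ∈ Ψ) {χ : IrrCharacter D} (hχ : χ ∉ Ψ)
    (hne : classInner (fun x => (θ : D → ℂ) x * conj ((θ : D → ℂ) x)) (χ : D → ℂ) ≠ 0) :
    ∀ lam : P →* ℂˣ, lam ≠ 1 → mult (χ : D → ℂ) lam = 0 := by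
  classical
  intro lam₁ hlam₁
  by_contra hbad
  haveI := Fintype.ofFinite (IrrCharacter D)
  haveI := Fintype.ofFinite (P →* ℂˣ)
  obtain ⟨lam₀, hlam₀, horb⟩ := hΨ1 θ hθ
  rw [← hP.card_orbit hlam₀] at hl
  set O := orbit lam₀ with hO
  set l := O.card with hldef
  set n := Nat.card P with hndef
  have hcl : Fintype.card (P →* ℂˣ) = n := by rw [← Nat.card_eq_fintype_card, hP.card_lam]
  have hresθ := hP.res_of_orbit (θ : D → ℂ) lam₀ horb
  set f₁ : D → ℂ := fun x => (θ : D → ℂ) x * conj ((θ : D → ℂ) x) with hf₁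
  set f₂ : D → ℂ := fun x => (θ : D → ℂ) x * (θ : D → ℂ) x with hf₂
  have hθx : ∀ x : P, (θ : D → ℂ) x = ∑ mu ∈ O, lc mu x := fun x => by
    simpa [res] using congrFun hresθ x
  have hres₁ : res P f₁ = ∑ p ∈ O ×ˢ O, lc (p.1 * p.2⁻¹) := by
    funext x
    simp only [res, hf₁, hθx, Finset.sum_apply, map_sum, Finset.sum_mul_sum, Finset.sum_product,
      lc_mul, conj_lc]
  have hres₂ : res P f₂ = ∑ p ∈ O ×ˢ O, lc (p.1 * p.2) := by
    funext x
    simp only [res, hf₂, hθx, Finset.sum_apply, Finset.sum_mul_sum, Finset.sum_product, lc_mul]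
  have hc₁ : IsCharacter D f₁ := isCharacter_mul (isCharacter_irr θ) (isCharacter_conj (isCharacter_irr θ))
  have hc₂ : IsCharacter D f₂ := isCharacter_mul (isCharacter_irr θ) (isCharacter_irr θ)
  have hA₁ : ∀ φ : IrrCharacter D, ∃ a : ℕ, classInner f₁ (φ : D → ℂ) = a :=
    fun φ => classInner_char_irr_nat hc₁ φ
  have hA₂ : ∀ φ : IrrCharacter D, ∃ a : ℕ, classInner f₂ (φ : D → ℂ) = a :=
    fun φ => classInner_char_irr_nat hc₂ φ
  choose a ha using hA₁
  choose a₂ ha₂ using hA₂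
  have hM : ∀ (φ : IrrCharacter D) (lam : P →* ℂˣ), ∃ m : ℕ, mult (φ : D → ℂ) lam = m :=
    fun φ lam => mult_nat (isCharacter_irr φ) lam
  choose m hm using hM
  let N₁ : (P →* ℂˣ) → ℕ := fun d => ((O ×ˢ O).filter fun p => p.1 * p.2⁻¹ = d).card
  let N₂ : (P →* ℂˣ) → ℕ := fun d => ((O ×ˢ O).filter fun p => p.1 * p.2 = d).card
  have hmN₁ : ∀ d, mult f₁ d = (N₁ d : ℂ) := fun d => mult_sum_pairs f₁ O _ hres₁ d
  have hmN₂ : ∀ d, mult f₂ d = (N₂ d : ℂ) := fun d => mult_sum_pairs f₂ O _ hres₂ d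
  have hN₁ : ∀ d, N₁ d = ∑ φ : IrrCharacter D, a φ * m φ d := fun d => by
    have := (hmN₁ d).symm.trans (mult_expand (isClassFunction_of_isCharacter hc₁) d)
    simp only [ha, hm] at this
    exact_mod_cast this
  have hN₂ : ∀ d, N₂ d = ∑ φ : IrrCharacter D, a₂ φ * m φ d := fun d => by
    have := (hmN₂ d).symm.trans (mult_expand (isClassFunction_of_isCharacter hc₂) d)
    simp only [ha₂, hm] at this
    exact_mod_cast this
  have hb : ∀ φ : IrrCharacter D, φ ∉ Ψ → ∀ d, d ≠ 1 → m φ d = m φ lam₁ := fun φ hφ d hd => by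
    have := hΨc φ hφ d lam₁ hd hlam₁
    rw [hm, hm] at this
    exact_mod_cast this
  have haχ : a χ ≠ 0 := fun e => hne (by rw [ha, e, Nat.cast_zero])
  have hbχ : m χ lam₁ ≠ 0 := fun e => hbad (by rw [hm, e, Nat.cast_zero])
  have hpos : ∀ d, d ≠ 1 → 1 ≤ N₁ d := fun d hd => by
    rw [hN₁]
    refine le_trans ?_ (Finset.single_le_sum (fun φ _ => Nat.zero_le _) (Finset.mem_univ χ))
    rw [hb χ hχ d hd]
    exact Nat.one_le_iff_ne_zero.2 (Nat.mul_ne_zero haχ hbχ)
  have hN11 : N₁ 1 = l := by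
    show ((O ×ˢ O).filter fun p => p.1 * p.2⁻¹ = 1).card = O.card
    refine Finset.card_bij (fun p _ => p.1) (fun p hp => ?_) (fun p hp q hq e => ?_)
      fun x hx => ⟨(x, x), Finset.mem_filter.2 ⟨Finset.mk_mem_product hx hx, mul_inv_cancel x⟩, rfl⟩
    · exact (Finset.mem_product.1 (Finset.mem_filter.1 hp).1).1
    · have h1 := (mul_inv_eq_one (G := P →* ℂˣ)).1 (Finset.mem_filter.1 hp).2
      have h2 := (mul_inv_eq_one (G := P →* ℂˣ)).1 (Finset.mem_filter.1 hq).2
      exact Prod.ext e (h1.symm.trans (e.trans h2))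
  have hNsum : ∑ d, N₁ d = l * l := by
    rw [← Finset.card_eq_sum_card_fiberwise (fun p _ => Finset.mem_univ (p.1 * p.2⁻¹)),
      Finset.card_product]
  rw [← Finset.add_sum_erase _ _ (Finset.mem_univ (1 : P →* ℂˣ)), hN11] at hNsum
  have hcard : (Finset.univ.erase (1 : P →* ℂˣ)).card = n - 1 := by
    rw [Finset.card_erase_of_mem (Finset.mem_univ _), Finset.card_univ, hcl]
  have hlow : n - 1 ≤ ∑ d ∈ Finset.univ.erase (1 : P →* ℂˣ), N₁ d := by
    rw [← hcard, Finset.card_eq_sum_ones]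
    exact Finset.sum_le_sum fun d hd => hpos d (Finset.ne_of_mem_erase hd)
  have hll : l * (l - 1) + l = l * l := by
    rcases Nat.eq_zero_or_pos l with h | h
    · simp [h]
    · rw [← Nat.mul_succ]; congr 1; omega
  have hone : ∀ d, d ≠ 1 → N₁ d = 1 := by
    intro d hd
    by_contra hne'
    have h1 : ∑ d ∈ Finset.univ.erase (1 : P →* ℂˣ), 1 < ∑ d ∈ Finset.univ.erase (1 : P →* ℂˣ), N₁ d :=
      Finset.sum_lt_sum (fun d hd => hpos d (Finset.ne_of_mem_erase hd))
        ⟨d, Finset.mem_erase.2 ⟨hd, Finset.mem_univ d⟩, lt_of_le_of_ne (hpos d hd) (Ne.symm hne')⟩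
    rw [← Finset.card_eq_sum_ones, hcard] at h1
    omega
  have hl4 : 4 ≤ l := by
    by_contra hlt
    have h1 : l * (l - 1) ≤ 3 * 2 := Nat.mul_le_mul (by omega) (by omega)
    omega
  have hln : l * (l - 1) = n - 1 := by omega
  -- the multiplicities of `θ θ̄`
  have hothers : ∀ φ : IrrCharacter D, φ ≠ χ → a φ ≠ 0 → φ ∉ Ψ ∧ m φ lam₁ = 0 := by
    intro φ hφ haφ
    have key : ∀ d, d ≠ 1 → m φ d = 0 := by
      intro d hd
      have h1 := hone d hd
      rw [hN₁, ← Finset.add_sum_erase _ _ (Finset.mem_univ χ), hb χ hχ d hd] at h1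
      have h2 : 1 ≤ a χ * m χ lam₁ := Nat.one_le_iff_ne_zero.2 (Nat.mul_ne_zero haχ hbχ)
      have h3 := Finset.single_le_sum (f := fun φ => a φ * m φ d) (fun φ _ => Nat.zero_le _)
        (Finset.mem_erase.2 ⟨hφ, Finset.mem_univ φ⟩)
      exact (Nat.mul_eq_zero.1 (show a φ * m φ d = 0 by omega)).resolve_left haφ
    refine ⟨fun hφΨ => ?_, key lam₁ hlam₁⟩
    obtain ⟨d, hd, hd'⟩ := hΨ1 φ hφΨ
    have := (hd' d).1 (hP.self_mem_orbit d)
    rw [hm, key d hd] at this
    simp at this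
  have haχ1 : a χ = 1 := by
    have h1 := hone lam₁ hlam₁
    rw [hN₁, ← Finset.add_sum_erase _ _ (Finset.mem_univ χ)] at h1
    have h2 : 1 ≤ a χ * m χ lam₁ := Nat.one_le_iff_ne_zero.2 (Nat.mul_ne_zero haχ hbχ)
    exact Nat.eq_one_of_mul_eq_one_right (show a χ * m χ lam₁ = 1 by omega)
  -- the norm of `θ θ̄` is at most `l + 1`
  have hself : lam₀ ∈ O := hP.self_mem_orbit lam₀
  have hac : ∀ φ : IrrCharacter D, φ ≠ χ → a φ ≠ 0 → a φ ≤ m φ 1 := by
    intro φ hφ haφ
    obtain ⟨hφΨ, hb0⟩ := hothers φ hφ haφ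
    have hresφ : res P (φ : D → ℂ) = fun _ => (m φ 1 : ℂ) := by
      funext x
      conv_lhs => rw [hP.expand (res P (φ : D → ℂ))]
      rw [Finset.sum_apply, Finset.sum_eq_single (1 : P →* ℂˣ) (fun d _ hd => ?_) (by simp)]
      · show classInner (res P (φ : D → ℂ)) (lc 1) * lc 1 x = _
        rw [show classInner (res P (φ : D → ℂ)) (lc 1) = (m φ 1 : ℂ) from hm φ 1]
        simp [lc]
      · show classInner (res P (φ : D → ℂ)) (lc d) * lc d x = 0
        rw [show classInner (res P (φ : D → ℂ)) (lc d) = (m φ d : ℂ) from hm φ d, hb φ hφΨ d hd, hb0]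
        simp
    set g : D → ℂ := fun x => (θ : D → ℂ) x * (φ : D → ℂ) x with hg
    have hgc : IsCharacter D g := isCharacter_mul (isCharacter_irr θ) (isCharacter_irr φ)
    have hgθ : classInner g (θ : D → ℂ) = a φ := by
      rw [← Complex.conj_natCast, ← ha, classInner_conj, classInner, classInner]
      congr 1
      refine Finset.sum_congr rfl fun x _ => ?_
      simp only [g, hf₁, map_mul, Complex.conj_conj]
      ring
    have hgm : mult g lam₀ = (m φ 1 : ℂ) := by
      have h1 : res P g = (m φ 1 : ℂ) • res P (θ : D → ℂ) := by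
        funext x
        show (θ : D → ℂ) x * res P (φ : D → ℂ) x = _
        rw [hresφ]
        simp [res, mul_comm]
      rw [mult, h1, classInner_smul_left, show classInner (res P (θ : D → ℂ)) (lc lam₀) = 1 from
        (horb lam₀).1 hself, mul_one]
    have hA : ∀ ψ : IrrCharacter D, ∃ b : ℕ, classInner g (ψ : D → ℂ) = b :=
      fun ψ => classInner_char_irr_nat hgc ψ
    choose b hb' using hA
    have h2 := hgm.symm.trans (mult_expand (isClassFunction_of_isCharacter hgc) lam₀)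
    simp only [hb', hm] at h2
    have h3 : m φ 1 = ∑ ψ : IrrCharacter D, b ψ * m ψ lam₀ := by exact_mod_cast h2
    have hθ1 : m θ lam₀ = 1 := by
      have := (horb lam₀).1 hself
      rw [hm] at this
      exact_mod_cast this
    have hbθ : b θ = a φ := by exact_mod_cast (hb' θ).symm.trans hgθ
    rw [h3]
    refine le_trans ?_ (Finset.single_le_sum (fun ψ _ => Nat.zero_le _) (Finset.mem_univ θ))
    rw [hθ1, hbθ, mul_one]
  have hsq₁ : ∑ φ : IrrCharacter D, a φ * a φ ≤ l + 1 := by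
    rw [← Finset.add_sum_erase _ _ (Finset.mem_univ χ), haχ1, mul_one, add_comm]
    refine Nat.add_le_add_right ?_ 1
    calc ∑ φ ∈ Finset.univ.erase χ, a φ * a φ ≤ ∑ φ ∈ Finset.univ.erase χ, a φ * m φ 1 :=
          Finset.sum_le_sum fun φ hφ => by
            rcases eq_or_ne (a φ) 0 with e | e
            · simp [e]
            · exact Nat.mul_le_mul_left _ (hac φ (Finset.ne_of_mem_erase hφ) e)
      _ ≤ ∑ φ : IrrCharacter D, a φ * m φ 1 :=
          Finset.sum_le_sum_of_subset (Finset.erase_subset _ _)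
      _ = l := by rw [← hN₁, hN11]
  -- `θ θ` involves exceptional characters only
  have hinvO : ∀ x ∈ O, x⁻¹ ∉ O := by
    intro x hx hx'
    have hinv : ∀ y ∈ O, y⁻¹ ∈ O := by
      intro y hy
      rw [hO, ← orbit_eq_of_mem hx] at hy
      obtain ⟨g, rfl⟩ := mem_orbit.1 hy
      rw [hO, ← orbit_eq_of_mem hx', show (tw g x)⁻¹ = tw g x⁻¹ from (MonoidHom.inv_comp x (cj g)).symm]
      exact mem_orbit.2 ⟨g, rfl⟩
    have hall : ∀ y ∈ O, y ≠ x → y = x⁻¹ := by
      intro y hy hyx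
      have hd : x * y⁻¹ ≠ 1 := fun e => hyx ((mul_inv_eq_one (G := P →* ℂˣ)).1 e).symm
      have h1 : N₁ (x * y⁻¹) = 1 := hone _ hd
      obtain ⟨p, hp⟩ := Finset.card_eq_one.1 h1
      have m1 : (x, y) ∈ (O ×ˢ O).filter fun q => q.1 * q.2⁻¹ = x * y⁻¹ :=
        Finset.mem_filter.2 ⟨Finset.mk_mem_product hx hy, rfl⟩
      have m2 : (y⁻¹, x⁻¹) ∈ (O ×ˢ O).filter fun q => q.1 * q.2⁻¹ = x * y⁻¹ :=
        Finset.mem_filter.2 ⟨Finset.mk_mem_product (hinv y hy) (hinv x hx), by
          show y⁻¹ * x⁻¹⁻¹ = x * y⁻¹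
          rw [show x⁻¹⁻¹ = x from inv_inv x]; exact mul_comm y⁻¹ x⟩
      rw [hp, Finset.mem_singleton] at m1 m2
      have := congrArg Prod.fst (m1.trans m2.symm)
      rw [show x = y⁻¹ from this]; exact (inv_inv y).symm
    have hsub : O ⊆ {x, x⁻¹} := fun y hy => by
      by_cases e : y = x
      · simp [e]
      · simp [hall y hy e]
    have := (Finset.card_le_card hsub).trans Finset.card_le_two
    omega
  have hN21 : N₂ 1 = 0 := by
    show ((O ×ˢ O).filter fun p => p.1 * p.2 = 1).card = 0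
    rw [Finset.card_eq_zero, Finset.filter_eq_empty_iff]
    intro p hp e
    exact hinvO _ (Finset.mem_product.1 hp).1
      ((eq_inv_of_mul_eq_one_right (α := P →* ℂˣ) e) ▸ (Finset.mem_product.1 hp).2)
  obtain ⟨d₀, hd₀, hd₀'⟩ : ∃ d, d ≠ (1 : P →* ℂˣ) ∧ N₂ d = 0 := by
    by_contra hcon
    push Not at hcon
    let F : Sym2 (P →* ℂˣ) → (P →* ℂˣ) :=
      Sym2.lift ⟨fun x y => x * y, fun x y => mul_comm x y⟩
    have hsub : Finset.univ.erase (1 : P →* ℂˣ) ⊆ O.sym2.image F := by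
      intro d hd
      obtain ⟨p, hp⟩ := Finset.card_ne_zero.1 (hcon d (Finset.ne_of_mem_erase hd))
      obtain ⟨hp, hpd⟩ := Finset.mem_filter.1 hp
      exact Finset.mem_image.2 ⟨s(p.1, p.2), Finset.mk_mem_sym2_iff.2
        ⟨(Finset.mem_product.1 hp).1, (Finset.mem_product.1 hp).2⟩, by simpa [F] using hpd⟩
    have h1 := (Finset.card_le_card hsub).trans Finset.card_image_le
    rw [hcard, Finset.card_sym2, Nat.choose_two_right, ← hln] at h1
    have h2 : (l + 1) * (l + 1 - 1) / 2 * 2 ≤ (l + 1) * (l + 1 - 1) := Nat.div_mul_le_self _ _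
    have h3 : 2 * (l * (l - 1)) ≤ l * (l + 1) := by
      rw [Nat.add_sub_cancel, mul_comm (l + 1) l] at h2
      rw [Nat.add_sub_cancel, mul_comm (l + 1) l] at h1
      change l * (l - 1) ≤ l * (l + 1) / 2 at h1
      omega
    have h4 : 2 * (l - 1) ≤ l + 1 := Nat.le_of_mul_le_mul_left (by linarith) (show 0 < l by omega)
    omega
  have ha2Ψ : ∀ φ : IrrCharacter D, φ ∉ Ψ → a₂ φ = 0 := by
    intro φ hφ
    by_contra hne'
    have h0 : ∀ d, N₂ d = 0 → m φ d = 0 := fun d hd => by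
      rw [hN₂, Finset.sum_eq_zero_iff] at hd
      exact (Nat.mul_eq_zero.1 (hd φ (Finset.mem_univ φ))).resolve_left hne'
    refine irr_one_ne_zero φ ?_
    rw [hP.eval_one (φ : D → ℂ)]
    refine Finset.sum_eq_zero fun d _ => ?_
    rw [hm, Nat.cast_eq_zero]
    rcases eq_or_ne d 1 with rfl | hd
    · exact h0 1 hN21
    · rw [hb φ hφ d hd, ← hb φ hφ d₀ hd₀]
      exact h0 d₀ hd₀'
  have hsqΨ : ∑ d, N₂ d * N₂ d = l * ∑ ψ ∈ Ψ, a₂ ψ * a₂ ψ := by
    have hred : ∀ d, N₂ d = ∑ ψ ∈ Ψ, a₂ ψ * m ψ d := fun d => by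
      rw [hN₂, ← Finset.sum_subset (Finset.subset_univ Ψ) fun φ _ hφ => by rw [ha2Ψ φ hφ, zero_mul]]
    simp only [hred, Finset.sum_mul_sum]
    rw [Finset.sum_comm, Finset.mul_sum]
    refine Finset.sum_congr rfl fun ψ hψ => ?_
    rw [Finset.sum_comm, Finset.sum_eq_single ψ]
    · obtain ⟨lam, hlam, hor⟩ := hΨ1 ψ hψ
      have hmm : ∀ d, m ψ d = if d ∈ orbit lam then 1 else 0 := fun d => by
        split_ifs with hd
        · have := (hor d).1 hd
          rw [hm] at this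
          exact_mod_cast this
        · have := (hor d).2 hd
          rw [hm] at this
          exact_mod_cast this
      simp only [hmm, mul_ite, mul_one, mul_zero, ite_mul, zero_mul]
      rw [Finset.sum_congr rfl (g := fun d => if d ∈ orbit lam then a₂ ψ * a₂ ψ else 0) (fun d _ => by
        split_ifs <;> rfl), ← Finset.sum_filter, Finset.sum_const, smul_eq_mul]
      congr 1
      rw [Finset.filter_mem_eq_inter, Finset.univ_inter, hP.card_orbit hlam, hldef, hO,
        hP.card_orbit hlam₀]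
    · intro ψ' hψ' hne'
      refine Finset.sum_eq_zero fun d _ => ?_
      by_cases h : m ψ d = 0
      · simp [h]
      · have h' : m ψ' d = 0 := by
          by_contra h'
          exact hne' (hΨu ψ' hψ' ψ hψ d (by rw [hm]; exact_mod_cast h') (by rw [hm]; exact_mod_cast h))
        simp [h']
    · exact fun h => absurd hψ h
  -- the two norms agree
  have hnormD : ∑ φ : IrrCharacter D, a φ * a φ = ∑ ψ ∈ Ψ, a₂ ψ * a₂ ψ := by
    have h1 : classInner f₁ f₁ = classInner f₂ f₂ := by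
      simp only [classInner]
      congr 1
      refine Finset.sum_congr rfl fun x _ => ?_
      simp only [hf₁, hf₂, map_mul, Complex.conj_conj]
      ring
    rw [classInner_expand (isClassFunction_of_isCharacter hc₁),
      classInner_expand (isClassFunction_of_isCharacter hc₂)] at h1
    simp only [ha, ha₂, Complex.conj_natCast] at h1
    rw [Finset.sum_subset (Finset.subset_univ Ψ) fun φ _ hφ => by rw [ha2Ψ φ hφ, zero_mul]]
    exact_mod_cast h1
  have hnormP : ∑ d, N₁ d * N₁ d = ∑ d, N₂ d * N₂ d := by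
    have h1 : classInner (res P f₁) (res P f₁) = classInner (res P f₂) (res P f₂) := by
      simp only [classInner]
      congr 1
      refine Finset.sum_congr rfl fun x _ => ?_
      simp only [res, hf₁, hf₂, map_mul, Complex.conj_conj]
      ring
    rw [hP.parseval, hP.parseval] at h1
    simp only [← mult.eq_1, hmN₁, hmN₂, Complex.conj_natCast] at h1
    exact_mod_cast h1
  have hsum1 : ∑ d, N₁ d * N₁ d = l * l + (n - 1) := by
    rw [← Finset.add_sum_erase _ _ (Finset.mem_univ (1 : P →* ℂˣ)), hN11, ← hcard,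
      Finset.card_eq_sum_ones]
    congr 1
    exact Finset.sum_congr rfl fun d hd => by rw [hone d (Finset.ne_of_mem_erase hd)]
  rw [hnormP, hsqΨ, ← hnormD, ← hln] at hsum1
  have h5 : l * (∑ φ : IrrCharacter D, a φ * a φ) ≤ l * (l + 1) := Nat.mul_le_mul_left _ hsq₁
  rw [hsum1, ← Nat.mul_add] at h5
  have := Nat.le_of_mul_le_mul_left h5 (show 0 < l by omega)
  omega

end CC

end CfsgLib.DerangeIndex
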